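import Groth.Agent.IsoNatLib.Elt
import Groth.Agent.IsoNatLib.Cls

/-!
# Vertical morphisms and elements along a functor out of a slice
-/

set_option autoImplicit false
set_option backward.isDefEq.respectTransparency false
set_option backward.isDefEq.respectTransparency.types false

universe u

open CategoryTheory CategoryTheory.Limits AlgebraicGeometry AlgSp FibCat FibLib AlgStLib IsoNat IsoNatLib
open CategoryTheory.Functor (Fiber IsStronglyCartesian)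

noncomputable section

namespace IsoNatUnr

variable {S : Scheme.{u}} {𝒴 : AlgSt.Cat S} [IsFibGrpd 𝒴.p] {U : Over S} (Y : overCat U ⥤ᵇ 𝒴)

/-- Morphisms into a value of `Y` are determined by their composites with a value of a morphism. -/
lemma ext_map {T : Over S} {a : 𝒴.obj} {o o' : Over U} (h : o ⟶ o') {g : T ⟶ o.left} {f f' : a ⟶ Y.obj o}
    (hf : 𝒴.p.IsHomLift g f) (hf' : 𝒴.p.IsHomLift g f') (e : f ≫ Y.map h = f' ≫ Y.map h) : f = f' := by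
  haveI := hf; haveI := hf'
  haveI := lift_map Y h
  exact IsStronglyCartesian.ext 𝒴.p h.left (Y.map h) g e

lemma exists_pbv {o o' : Over U} (h : o ⟶ o') (a : Y.obj o' ⟶ Y.obj o') (ha : 𝒴.p.IsHomLift (𝟙 o'.left) a) :
    ∃ b : Y.obj o ⟶ Y.obj o, 𝒴.p.IsHomLift (𝟙 o.left) b ∧ b ≫ Y.map h = Y.map h ≫ a := by
  haveI := ha
  haveI := lift_map Y h
  haveI : 𝒴.p.IsHomLift h.left (Y.map h ≫ a) := IsHomLift.comp_lift_id_right 𝒴.p h.left (Y.map h) a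
  exact ⟨IsStronglyCartesian.map 𝒴.p h.left (Y.map h) (g := 𝟙 o.left) (f' := h.left) (Category.id_comp _).symm
    (Y.map h ≫ a), IsStronglyCartesian.map_isHomLift 𝒴.p h.left (Y.map h) (g := 𝟙 o.left) (f' := h.left)
    (Category.id_comp _).symm (Y.map h ≫ a), IsStronglyCartesian.fac 𝒴.p h.left (Y.map h) (g := 𝟙 o.left)
    (f' := h.left) (Category.id_comp _).symm (Y.map h ≫ a)⟩

/-- The pullback of a vertical endomorphism of a value. -/
def pbv {o o' : Over U} (h : o ⟶ o') (a : Y.obj o' ⟶ Y.obj o') (ha : 𝒴.p.IsHomLift (𝟙 o'.left) a) :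
    Y.obj o ⟶ Y.obj o := (exists_pbv Y h a ha).choose

lemma pbv_lift {o o' : Over U} (h : o ⟶ o') (a : Y.obj o' ⟶ Y.obj o') (ha : 𝒴.p.IsHomLift (𝟙 o'.left) a) :
    𝒴.p.IsHomLift (𝟙 o.left) (pbv Y h a ha) := (exists_pbv Y h a ha).choose_spec.1

lemma pbv_fac {o o' : Over U} (h : o ⟶ o') (a : Y.obj o' ⟶ Y.obj o') (ha : 𝒴.p.IsHomLift (𝟙 o'.left) a) :
    pbv Y h a ha ≫ Y.map h = Y.map h ≫ a := (exists_pbv Y h a ha).choose_spec.2

lemma eq_pbv {o o' : Over U} (h : o ⟶ o') (a : Y.obj o' ⟶ Y.obj o') (ha : 𝒴.p.IsHomLift (𝟙 o'.left) a)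
    {b : Y.obj o ⟶ Y.obj o} (hb : 𝒴.p.IsHomLift (𝟙 o.left) b) (e : b ≫ Y.map h = Y.map h ≫ a) :
    b = pbv Y h a ha :=
  ext_map Y h hb (pbv_lift Y h a ha) (e.trans (pbv_fac Y h a ha).symm)

/-- Pullbacks of endomorphisms are natural. -/
lemma pbv_comp {o o' o'' : Over U} (m : o ⟶ o') (h : o' ⟶ o'') (a : Y.obj o'' ⟶ Y.obj o'')
    (ha : 𝒴.p.IsHomLift (𝟙 o''.left) a) :
    pbv Y (m ≫ h) a ha ≫ Y.map m = Y.map m ≫ pbv Y h a ha := by
  haveI := pbv_lift Y h a ha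
  haveI := pbv_lift Y (m ≫ h) a ha
  haveI := lift_map Y m
  refine ext_map Y h (IsHomLift.comp_lift_id_left 𝒴.p m.left (Y.map m) (pbv Y (m ≫ h) a ha))
    (IsHomLift.comp_lift_id_right 𝒴.p m.left (Y.map m) (pbv Y h a ha)) ?_
  simp only [Category.assoc, ← Functor.map_comp, pbv_fac]
  simp only [Functor.map_comp, Category.assoc]

lemma pbv_eq_id {o o₀ o'' : Over U} (q : o ⟶ o₀) (j : o₀ ⟶ o'') (a : Y.obj o'' ⟶ Y.obj o'')
    (ha : 𝒴.p.IsHomLift (𝟙 o''.left) a) (h0 : Y.map j ≫ a = Y.map j) :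
    pbv Y (q ≫ j) a ha = 𝟙 _ :=
  (eq_pbv Y (q ≫ j) a ha (IsHomLift.id (Y.w_obj o)) (by
    rw [Category.id_comp, Functor.map_comp, Category.assoc, h0])).symm

omit [IsFibGrpd 𝒴.p] in
lemma lift_id (o : Over U) : 𝒴.p.IsHomLift (𝟙 o.left) (𝟙 (Y.obj o)) := IsHomLift.id (Y.w_obj o)

/-- A morphism over a retraction adjusts a morphism to a prescribed restriction. -/
lemma exists_adjust {o o₀ : Over U} (j : o₀ ⟶ o) (r : o ⟶ o₀) (hjr : j ≫ r = 𝟙 o₀) {z : 𝒴.obj} {T : Over S}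
    {b : o.left ⟶ T} (m : Y.obj o ⟶ z) (hm : 𝒴.p.IsHomLift b m) (m₀ : Y.obj o₀ ⟶ z)
    (hm₀ : 𝒴.p.IsHomLift (j.left ≫ b) m₀) :
    ∃ m' : Y.obj o ⟶ z, 𝒴.p.IsHomLift b m' ∧ Y.map j ≫ m' = m₀ := by
  haveI := hm; haveI := hm₀
  haveI := lift_map Y j
  haveI := lift_map Y r
  haveI h1 : 𝒴.p.IsHomLift (j.left ≫ b) (Y.map j ≫ m) := inferInstance
  let a : Y.obj o₀ ⟶ Y.obj o₀ := IsStronglyCartesian.map 𝒴.p (j.left ≫ b) (Y.map j ≫ m) (g := 𝟙 o₀.left)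
    (f' := j.left ≫ b) (Category.id_comp _).symm m₀
  haveI ha : 𝒴.p.IsHomLift (𝟙 o₀.left) a := IsStronglyCartesian.map_isHomLift 𝒴.p (j.left ≫ b) (Y.map j ≫ m)
    (g := 𝟙 o₀.left) (f' := j.left ≫ b) (Category.id_comp _).symm m₀
  have hfac : a ≫ Y.map j ≫ m = m₀ := IsStronglyCartesian.fac 𝒴.p (j.left ≫ b) (Y.map j ≫ m) (g := 𝟙 o₀.left)
    (f' := j.left ≫ b) (Category.id_comp _).symm m₀
  haveI := pbv_lift Y r a ha
  refine ⟨pbv Y r a ha ≫ m, IsHomLift.comp_lift_id_left 𝒴.p b m (pbv Y r a ha), ?_⟩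
  have key : Y.map j ≫ pbv Y r a ha = a ≫ Y.map j := by
    refine ext_map Y r (IsHomLift.comp_lift_id_right 𝒴.p j.left (Y.map j) (pbv Y r a ha))
      (IsHomLift.comp_lift_id_left 𝒴.p j.left (Y.map j) a) ?_
    rw [Category.assoc, Category.assoc, pbv_fac, ← Category.assoc, ← Y.toFunctor.map_comp, hjr]
    simp
  rw [← Category.assoc, key, Category.assoc, hfac]

/-- A morphism between values over a map is a vertical morphism followed by the value of a morphism. -/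
lemma exists_vert_fac {T : Over S} {a : 𝒴.obj} {o o' : Over U} (h : o ⟶ o') {g : T ⟶ o.left}
    (f : a ⟶ Y.obj o') (hf : 𝒴.p.IsHomLift (g ≫ h.left) f) :
    ∃ f₁ : a ⟶ Y.obj o, 𝒴.p.IsHomLift g f₁ ∧ f₁ ≫ Y.map h = f := by
  haveI := hf
  haveI := lift_map Y h
  exact ⟨IsStronglyCartesian.map 𝒴.p h.left (Y.map h) (g := g) (f' := g ≫ h.left) rfl f,
    IsStronglyCartesian.map_isHomLift 𝒴.p h.left (Y.map h) (g := g) (f' := g ≫ h.left) rfl f,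
    IsStronglyCartesian.fac 𝒴.p h.left (Y.map h) (g := g) (f' := g ≫ h.left) rfl f⟩

variable {V : Over S} {z : 𝒴.p.Fiber V}

/-- The element given by an object of the slice. -/
abbrev mkE (o : Over U) (b : o.left ⟶ V) (n : Y.obj o ⟶ z.1) (hn : 𝒴.p.IsHomLift b n) : Elt Y z o.left :=
  ⟨b, Fiber.mk (p := (overCat U).p) (a := o) rfl, n, hn⟩

omit [IsFibGrpd 𝒴.p] in
lemma ehom_mkE {o o' : Over U} (m : o' ⟶ o) {b : o.left ⟶ V} {n : Y.obj o ⟶ z.1}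
    (hn : 𝒴.p.IsHomLift b n) {b' : o'.left ⟶ V} {n' : Y.obj o' ⟶ z.1} (hn' : 𝒴.p.IsHomLift b' n')
    (e : Y.map m ≫ n = n') : EHom m.left (mkE Y o' b' n' hn') (mkE Y o b n hn) :=
  ⟨m, IsHomLift.map (overCat U).p m, e⟩

variable {H : Sp S} {a : H ⟶ (yon S).obj V} (C : Classifier Y z a)

omit [IsFibGrpd 𝒴.p] in
include C in
lemma cls_mkE_map {o o' : Over U} (m : o' ⟶ o) {b : o.left ⟶ V} {n : Y.obj o ⟶ z.1}
    (hn : 𝒴.p.IsHomLift b n) {b' : o'.left ⟶ V} {n' : Y.obj o' ⟶ z.1} (hn' : 𝒴.p.IsHomLift b' n')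
    (e : Y.map m ≫ n = n') : C.cls (mkE Y o' b' n' hn') = (yon S).map m.left ≫ C.cls (mkE Y o b n hn) :=
  C.cls_map (ehom_mkE Y m hn hn' e)

omit [IsFibGrpd 𝒴.p] in
include C in
/-- The classified object is determined. -/
lemma obj_eq_of_cls {T : Over S} {v v' : T ⟶ U} {b : T ⟶ V} {n : Y.obj (Over.mk v) ⟶ z.1}
    (hn : 𝒴.p.IsHomLift b n) {b' : T ⟶ V} {n' : Y.obj (Over.mk v') ⟶ z.1} (hn' : 𝒴.p.IsHomLift b' n')
    (e : C.cls (mkE Y (Over.mk v') b' n' hn') = C.cls (mkE Y (Over.mk v) b n hn)) : v' = v := by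
  obtain ⟨k, hk, -⟩ := C.ehom_of_eq e
  have h1 : k.left = 𝟙 T := eq_of_lifts (overCat U).p k (IsHomLift.map (overCat U).p k) hk
  have h2 := Over.w k
  rw [h1] at h2
  exact ((Category.id_comp _).symm.trans h2).symm

omit [IsFibGrpd 𝒴.p] in
include C in
/-- The classified map is determined. -/
lemma map_eq_of_cls {o : Over U} {b : o.left ⟶ V} {n : Y.obj o ⟶ z.1}
    (hn : 𝒴.p.IsHomLift b n) {b' : o.left ⟶ V} {n' : Y.obj o ⟶ z.1} (hn' : 𝒴.p.IsHomLift b' n')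
    (e : C.cls (mkE Y o b' n' hn') = C.cls (mkE Y o b n hn)) : n' = n := by
  obtain ⟨k, hk, hk'⟩ := C.ehom_of_eq e
  have h1 : k = 𝟙 o :=
    Over.OverMorphism.ext (eq_of_lifts (overCat U).p k (IsHomLift.map (overCat U).p k) hk)
  change Y.map k ≫ n = n' at hk'
  rw [← hk', h1]
  exact (congrArg (· ≫ n) (Y.toFunctor.map_id o)).trans (Category.id_comp n)

omit [IsFibGrpd 𝒴.p] in
lemma base_eq_of_cls {o : Over U} {b : o.left ⟶ V} {n : Y.obj o ⟶ z.1} (hn : 𝒴.p.IsHomLift b n) :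
    C.cls (mkE Y o b n hn) ≫ a = (yon S).map b :=
  C.cls_comp _

omit [IsFibGrpd 𝒴.p] in
include C in
lemma exists_mkE {T : Over S} (t : (yon S).obj T ⟶ H) :
    ∃ (v : T ⟶ U) (b : T ⟶ V) (n : Y.obj (Over.mk v) ⟶ z.1) (hn : 𝒴.p.IsHomLift b n),
      C.cls (mkE Y (Over.mk v) b n hn) = t := by
  obtain ⟨⟨b, ⟨o, ho⟩, n, hn⟩, rfl⟩ := C.exists_elt t
  obtain ⟨T', v, rfl⟩ := o.mk_surjective
  change T' = T at ho
  subst ho
  exact ⟨v, b, n, hn, rfl⟩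

end IsoNatUnr
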