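import Groth.Agent.AlgSpLib.FormalLocal
import Groth.Agent.AlgSpLib.LocP

/-!
# Infinitesimal lifting along surjective ring maps with square-zero kernel
-/

set_option autoImplicit false

universe u

open CategoryTheory CategoryTheory.Limits AlgebraicGeometry AlgSp

noncomputable section

namespace IsoNatUnr

variable {S : Scheme.{u}} {R B : Type u} [CommRing R] [CommRing B] {p : R →+* B}
  {strR : Spec (.of R) ⟶ S} {strB : Spec (.of B) ⟶ S} {F G : Sp S} {a : F ⟶ G}

lemma ker_sq_bot (hsq : ∀ x y, p x = 0 → p y = 0 → x * y = 0) : RingHom.ker p ^ 2 = ⊥ := by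
  rw [pow_two]
  exact le_bot_iff.1 (Ideal.mul_le.2 fun x hx y hy => Ideal.mem_bot.2 (hsq x y hx hy))

variable (hp : Function.Surjective p) (j : Over.mk strB ⟶ Over.mk strR) (hj : j.left = Spec.map (CommRingCat.ofHom p))

/-- The comparison of the closed subscheme with the quotient. -/
def kerHom : Over.mk (Spec.map (CommRingCat.ofHom (Ideal.Quotient.mk (RingHom.ker p))) ≫ strR) ⟶ Over.mk strB :=
  Over.homMk (Spec.map (CommRingCat.ofHom (RingHom.quotientKerEquivOfSurjective hp).symm.toRingHom)) <| by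
    change _ ≫ strB = _ ≫ strR
    have e : strB = Spec.map (CommRingCat.ofHom p) ≫ strR := by rw [← hj]; exact (Over.w j).symm
    rw [e, ← Spec.map_comp_assoc]
    congr 2
    refine CommRingCat.hom_ext (RingHom.ext fun x => ?_)
    change (RingHom.quotientKerEquivOfSurjective hp).symm (p x) = Ideal.Quotient.mk _ x
    rw [RingEquiv.symm_apply_eq]
    exact (RingHom.quotientKerEquivOfSurjective_apply_mk hp x).symm

lemma isIso_kerHom : IsIso (kerHom hp j hj) := by
  have : IsIso ((Over.forget S).map (kerHom hp j hj)) := by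
    change IsIso (Spec.map (RingHom.quotientKerEquivOfSurjective hp).symm.toCommRingCatIso.hom)
    infer_instance
  exact isIso_of_reflects_iso _ (Over.forget S)

lemma kerHom_j : kerHom hp j hj ≫ j =
    (Over.homMk (Spec.map (CommRingCat.ofHom (Ideal.Quotient.mk (RingHom.ker p)))) rfl :
      Over.mk (Spec.map (CommRingCat.ofHom (Ideal.Quotient.mk (RingHom.ker p))) ≫ strR) ⟶ Over.mk strR) := by
  refine Over.OverMorphism.ext ?_
  rw [Over.comp_left, hj]
  change Spec.map _ ≫ Spec.map _ = Spec.map _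
  rw [← Spec.map_comp]
  congr 1
  refine CommRingCat.hom_ext (RingHom.ext fun x => ?_)
  change (RingHom.quotientKerEquivOfSurjective hp).symm (p x) = Ideal.Quotient.mk _ x
  rw [RingEquiv.symm_apply_eq]
  exact (RingHom.quotientKerEquivOfSurjective_apply_mk hp x).symm

include hp hj in
theorem hom_eq_of_unramified (hsq : ∀ x y, p x = 0 → p y = 0 → x * y = 0)
    (ha : IsFormallyUnramifiedMor a) {t t' : (yon S).obj (Over.mk strR) ⟶ F}
    (h₁ : (yon S).map j ≫ t = (yon S).map j ≫ t') (h₂ : t ≫ a = t' ≫ a) : t = t' := by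
  let s : InfSq a :=
    { A := R, I := RingHom.ker p, sq_zero := ker_sq_bot hsq, str := strR,
      top := (yon S).map (kerHom hp j hj) ≫ (yon S).map j ≫ t, bot := t ≫ a,
      comm := by simp only [Category.assoc, ← Functor.map_comp_assoc, kerHom_j] }
  refine ha s t t' ?_ rfl ?_ h₂.symm
  · change (yon S).map _ ≫ t = (yon S).map (kerHom hp j hj) ≫ (yon S).map j ≫ t
    rw [← Functor.map_comp_assoc, kerHom_j]
  · change (yon S).map _ ≫ t' = (yon S).map (kerHom hp j hj) ≫ (yon S).map j ≫ t
    rw [h₁, ← Functor.map_comp_assoc, kerHom_j]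

include hp hj in
theorem exists_lift_of_etale (hsq : ∀ x y, p x = 0 → p y = 0 → x * y = 0)
    (ha : IsFormallyEtaleMor a) (t₀ : (yon S).obj (Over.mk strB) ⟶ F) (t : (yon S).obj (Over.mk strR) ⟶ G)
    (h : t₀ ≫ a = (yon S).map j ≫ t) :
    ∃ l : (yon S).obj (Over.mk strR) ⟶ F, (yon S).map j ≫ l = t₀ ∧ l ≫ a = t := by
  let s : InfSq a :=
    { A := R, I := RingHom.ker p, sq_zero := ker_sq_bot hsq, str := strR,
      top := (yon S).map (kerHom hp j hj) ≫ t₀, bot := t,
      comm := by simp only [Category.assoc, h, ← Functor.map_comp_assoc, kerHom_j] }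
  obtain ⟨l, ⟨h1, h2⟩, -⟩ := ha s
  refine ⟨l, ?_, h2⟩
  haveI := isIso_kerHom hp j hj
  rw [← cancel_epi ((yon S).map (kerHom hp j hj)), ← Functor.map_comp_assoc, kerHom_j]
  exact h1

theorem isFormallyEtaleMor_of_repWith {F G : Sp S} (hF : IsAlgSpace F) (hG : IsAlgSpace G) {q : F ⟶ G}
    (hq : RepWith @Etale q) : IsFormallyEtaleMor q :=
  AlgSpLib.isFormallyEtaleMor_of_isEtaleMor hF hG fun _ _ hφ =>
    AlgSpLib.repWith_comp (P := (@Etale : MorphismProperty Scheme.{u})) hφ hq

end IsoNatUnr
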