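import Groth.Agent.IsoNatUnr.Ring
import Groth.Agent.IsoNatUnr.Lift
import Groth.Agent.IsoNatUnr.Elts

/-!
# Infinitesimal automorphisms descend to fibre products of rings
-/

set_option autoImplicit false
set_option backward.isDefEq.respectTransparency false
set_option backward.isDefEq.respectTransparency.types false

universe u

open CategoryTheory CategoryTheory.Limits AlgebraicGeometry AlgSp FibCat FibLib AlgStLib IsoNat IsoNatLib
open CategoryTheory.Functor (Fiber IsStronglyCartesian)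

noncomputable section

namespace IsoNatUnr

variable {S : Scheme.{u}} {U : Over S}

/-- A scheme over `U` as an object of the slice. -/
abbrev oU {T : Scheme.{u}} (v : T ⟶ U.left) : Over U :=
  Over.mk (Over.homMk v rfl : Over.mk (v ≫ U.hom) ⟶ U)

/-- A morphism over `U`. -/
abbrev oHom {T T' : Scheme.{u}} {v : T ⟶ U.left} {v' : T' ⟶ U.left} (g : T ⟶ T') (h : g ≫ v' = v) :
    oU v ⟶ oU v' :=
  Over.homMk (Over.homMk g (by change g ≫ v' ≫ U.hom = v ≫ U.hom; rw [← h, Category.assoc]))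
    (Over.OverMorphism.ext h)

/-- `Spec` of a ring map. -/
abbrev sp {A B : Type u} [CommRing A] [CommRing B] (f : A →+* B) : Spec (.of B) ⟶ Spec (.of A) :=
  Spec.map (CommRingCat.ofHom f)

lemma sp_comp {A B D : Type u} [CommRing A] [CommRing B] [CommRing D] (f : A →+* B) (g : B →+* D) :
    sp g ≫ sp f = sp (g.comp f) := (Spec.map_comp _ _).symm

lemma sp_id {A : Type u} [CommRing A] : sp (RingHom.id A) = 𝟙 _ := Spec.map_id _

lemma sp_inj {A B : Type u} [CommRing A] [CommRing B] {f g : A →+* B} (h : sp f = sp g) : f = g :=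
  congrArg CommRingCat.Hom.hom (Spec.map_injective h)

lemma exists_sp {A B : Type u} [CommRing A] [CommRing B] (l : Spec (.of B) ⟶ Spec (.of A)) :
    ∃ f : A →+* B, sp f = l :=
  ⟨(Spec.preimage l).hom, by change Spec.map (CommRingCat.ofHom (Spec.preimage l).hom) = l; simp⟩

lemma sp_comp_assoc {A B D : Type u} [CommRing A] [CommRing B] [CommRing D] (f : A →+* B) (g : B →+* D)
    {Z : Scheme.{u}} (h : Spec (.of A) ⟶ Z) : sp g ≫ sp f ≫ h = sp (g.comp f) ≫ h := by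
  rw [← Category.assoc, sp_comp]

variable {𝒴 : AlgSt.Cat S} [IsFibGrpd 𝒴.p] (Y : overCat U ⥤ᵇ 𝒴)

/-- The value at the identity. -/
abbrev zU : 𝒴.p.Fiber U := Fiber.mk (p := 𝒴.p) (a := Y.obj (Over.mk (𝟙 U))) (Y.w_obj _)

lemma vMap_lift {o : Over U} {a : Y.obj o ⟶ Y.obj o} (ha : 𝒴.p.IsHomLift (𝟙 o.left) a) :
    𝒴.p.IsHomLift o.hom (a ≫ Y.map (toId o)) := by
  haveI := ha
  haveI : 𝒴.p.IsHomLift o.hom (Y.map (toId o)) := lift_map Y (toId o)
  exact IsHomLift.comp_lift_id_left 𝒴.p o.hom (Y.map (toId o)) a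

/-- The element of a vertical endomorphism. -/
abbrev vE (o : Over U) (a : Y.obj o ⟶ Y.obj o) (ha : 𝒴.p.IsHomLift (𝟙 o.left) a) : Elt Y (zU Y) o.left :=
  mkE Y o o.hom (a ≫ Y.map (toId o)) (vMap_lift Y ha)

variable {H : Sp S} {aH : H ⟶ (yon S).obj U} (C : Classifier Y (zU Y) aH)

lemma cls_vE_map {o o' : Over U} (m : o' ⟶ o) {a : Y.obj o ⟶ Y.obj o} (ha : 𝒴.p.IsHomLift (𝟙 o.left) a)
    {a' : Y.obj o' ⟶ Y.obj o'} (ha' : 𝒴.p.IsHomLift (𝟙 o'.left) a') (e : Y.map m ≫ a = a' ≫ Y.map m) :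
    C.cls (vE Y o' a' ha') = (yon S).map m.left ≫ C.cls (vE Y o a ha) :=
  cls_mkE_map Y C m _ _ (by
    rw [← Category.assoc, e, Category.assoc, ← Y.toFunctor.map_comp]
    exact congrArg (fun k => a' ≫ Y.map k) (comp_toId m))

lemma vE_inj {o : Over U} {a a' : Y.obj o ⟶ Y.obj o} (ha : 𝒴.p.IsHomLift (𝟙 o.left) a)
    (ha' : 𝒴.p.IsHomLift (𝟙 o.left) a') (e : C.cls (vE Y o a ha) = C.cls (vE Y o a' ha')) : a = a' :=
  ext_map Y (toId o) ha ha' (map_eq_of_cls Y C _ _ e)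

/-- A chart of the classifying sheaf through which the identity section over `Spec B` factors. -/
structure AutChart {B : Type u} [CommRing B] (uB : Spec (.of B) ⟶ U.left) where
  /-- the ring of the chart -/
  A : Type u
  [commA : CommRing A]
  /-- the ring of an affine piece of `U` -/
  K : Type u
  [commK : CommRing K]
  /-- the affine piece -/
  piece : Spec (.of K) ⟶ U.left
  [mono : Mono piece]
  /-- the structure map -/
  str : Spec (.of A) ⟶ S
  /-- the chart -/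
  q : (yon S).obj (Over.mk str) ⟶ H
  etale : IsFormallyEtaleMor q
  /-- the object of the universal element -/
  v : Over.mk str ⟶ U
  /-- the base of the universal element -/
  b : Over.mk str ⟶ U
  /-- the map of the universal element -/
  n : Y.obj (Over.mk v) ⟶ (zU Y).1
  lift : 𝒴.p.IsHomLift b n
  cls_eq : C.cls (mkE Y (Over.mk v) b n lift) = q
  /-- the factorization of the object -/
  vK : K →+* A
  hvK : sp vK ≫ piece = v.left
  /-- the factorization of the base -/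
  bK : K →+* A
  hbK : sp bK ≫ piece = b.left
  /-- the factorization of the identity section -/
  χ : A →+* B
  /-- the morphism of `χ` -/
  χh : (oU uB).left ⟶ Over.mk str
  hχh : χh.left = sp χ
  cls_id : C.cls (vE Y (oU uB) (𝟙 _) (lift_id Y _)) = (yon S).map χh ≫ q

attribute [instance] AutChart.commA AutChart.commK AutChart.mono

variable {C} {B : Type u} [CommRing B] {uB : Spec (.of B) ⟶ U.left} (D : AutChart Y C uB)

lemma AutChart.base_of_cls {o : Over U} {a : Y.obj o ⟶ Y.obj o} (ha : 𝒴.p.IsHomLift (𝟙 o.left) a)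
    (l : o.left ⟶ Over.mk D.str) (e : C.cls (vE Y o a ha) = (yon S).map l ≫ D.q) :
    l ≫ D.b = o.hom := by
  refine (yon S).map_injective ?_
  have := congrArg (· ≫ aH) e
  simp only [Category.assoc] at this
  rw [Functor.map_comp, ← base_eq_of_cls Y C (vMap_lift Y ha), this, ← D.cls_eq, base_eq_of_cls Y C D.lift]

lemma AutChart.obj_of_cls {T : Over S} {v : T ⟶ U} {a : Y.obj (Over.mk v) ⟶ Y.obj (Over.mk v)}
    (ha : 𝒴.p.IsHomLift (𝟙 T) a) (l : T ⟶ Over.mk D.str)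
    (e : C.cls (vE Y (Over.mk v) a ha) = (yon S).map l ≫ D.q) : l ≫ D.v = v := by
  haveI := D.lift
  let m : Over.mk (l ≫ D.v) ⟶ Over.mk D.v := Over.homMk l
  haveI := lift_map Y m
  haveI : 𝒴.p.IsHomLift (l ≫ D.b) (Y.map m ≫ D.n) := inferInstanceAs (𝒴.p.IsHomLift (m.left ≫ D.b) _)
  refine (obj_eq_of_cls Y C (vMap_lift Y (o := Over.mk v) ha) (v' := l ≫ D.v) (b' := l ≫ D.b) (n' := Y.map m ≫ D.n) ‹_› ?_)
  exact ((cls_mkE_map Y C m D.lift ‹_› rfl).trans (by rw [D.cls_eq]; rfl)).trans e.symm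

section Fib

variable {B' R' : Type u} [CommRing B'] [CommRing R'] {f : B →+* B'} {p : R' →+* B'} (iR : B →+* R')
  (hiR : p.comp iR = f)

/-- The section of the fibre product. -/
abbrev fibSec : B →+* fibRing f p := fibLift (RingHom.id B) iR (by rw [hiR]; rfl)

/-- The spectrum of the fibre product over `U`. -/
abbrev oC (uB : Spec (.of B) ⟶ U.left) : Over U := oU (sp (fibSec iR hiR) ≫ uB)

/-- The first projection. -/
abbrev jC (uB : Spec (.of B) ⟶ U.left) : oU uB ⟶ oC iR hiR uB :=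
  oHom (sp fibFst) (by rw [sp_comp_assoc, fibFst_lift, sp_id, Category.id_comp])

/-- The second projection. -/
abbrev sR (uB : Spec (.of B) ⟶ U.left) : oU (sp iR ≫ uB) ⟶ oC iR hiR uB :=
  oHom (sp fibSnd) (by rw [sp_comp_assoc, fibSnd_lift])

/-- The reduction. -/
abbrev jR (uB : Spec (.of B) ⟶ U.left) : oU (sp f ≫ uB) ⟶ oU (sp iR ≫ uB) :=
  oHom (sp p) (by rw [sp_comp_assoc, hiR])

/-- The map to the base. -/
abbrev qB (f : B →+* B') (uB : Spec (.of B) ⟶ U.left) : oU (sp f ≫ uB) ⟶ oU uB := oHom (sp f) rfl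

lemma fibFst_sq (hsq : ∀ x y, p x = 0 → p y = 0 → x * y = 0) :
    ∀ x y : fibRing f p, fibFst x = 0 → fibFst y = 0 → x * y = 0 := by
  rintro ⟨⟨b, x⟩, hx⟩ ⟨⟨b', y⟩, hy⟩ (rfl : b = 0) (rfl : b' = 0)
  change f 0 = p x at hx
  change f 0 = p y at hy
  rw [map_zero] at hx hy
  exact Subtype.ext (Prod.ext (mul_zero (0 : B)) (hsq x y hx.symm hy.symm))

include D in
/-- A trivially reduced endomorphism over the thickening comes from the fibre product. -/
theorem AutChart.exists_descend (hp : Function.Surjective p) (hsq : ∀ x y, p x = 0 → p y = 0 → x * y = 0)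
    (β : Y.obj (oU (sp iR ≫ uB)) ⟶ Y.obj (oU (sp iR ≫ uB))) (hβ : 𝒴.p.IsHomLift (𝟙 (oU (sp iR ≫ uB)).left) β)
    (h0 : Y.map (jR iR hiR uB) ≫ β = Y.map (jR iR hiR uB)) :
    ∃ β' : Y.obj (oC iR hiR uB) ⟶ Y.obj (oC iR hiR uB), 𝒴.p.IsHomLift (𝟙 (oC iR hiR uB).left) β' ∧
      Y.map (jC iR hiR uB) ≫ β' = Y.map (jC iR hiR uB) ∧
      Y.map (sR iR hiR uB) ≫ β' = β ≫ Y.map (sR iR hiR uB) := by
  haveI := D.lift
  have e0 := (cls_vE_map Y C (jR iR hiR uB) hβ (lift_id Y _) (h0.trans (Category.id_comp _).symm)).symm.trans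
    (cls_vE_map Y C (qB f uB) (lift_id Y _) (lift_id Y _) ((Category.comp_id _).trans (Category.id_comp _).symm))
  rw [D.cls_id, ← Functor.map_comp_assoc] at e0
  obtain ⟨l, hl, hlt⟩ := exists_lift_of_etale hp (jR iR hiR uB).left rfl hsq D.etale
    ((yon S).map ((qB f uB).left ≫ D.χh)) (C.cls (vE Y _ β hβ)) e0.symm
  obtain ⟨l, rfl⟩ := (yon S).map_surjective l
  have hb : sp D.χ ≫ sp D.bK ≫ D.piece = uB := by
    rw [D.hbK, ← D.hχh, ← Over.comp_left, D.base_of_cls Y (lift_id Y _) D.χh D.cls_id]; rfl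
  have hv : sp D.χ ≫ sp D.vK ≫ D.piece = uB := by
    rw [D.hvK, ← D.hχh, ← Over.comp_left, D.obj_of_cls Y (lift_id Y _) D.χh D.cls_id]; rfl
  obtain ⟨g₂, hg₂⟩ := exists_sp l.left
  have hg : f.comp D.χ = p.comp g₂ := by
    apply sp_inj
    have := congrArg Over.Hom.left ((yon S).map_injective ((Functor.map_comp _ _ _).trans hl))
    simp only [Over.comp_left, D.hχh] at this
    rw [← sp_comp, ← sp_comp, hg₂]
    exact this.symm
  let g : D.A →+* fibRing f p := fibLift D.χ g₂ hg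
  have key : ∀ k : D.K →+* D.A, sp D.χ ≫ sp k ≫ D.piece = uB → l.left ≫ sp k ≫ D.piece = sp iR ≫ uB →
      sp g ≫ sp k ≫ D.piece = sp (fibSec iR hiR) ≫ uB := by
    intro k h1 h2
    have h4 : g₂.comp k = iR.comp (D.χ.comp k) := by
      apply sp_inj
      rw [← cancel_mono D.piece, ← sp_comp, ← sp_comp, ← sp_comp]
      simp only [Category.assoc]
      rw [hg₂, h2, h1]
    have h5 : g.comp k = (fibSec iR hiR).comp (D.χ.comp k) := by
      refine fib_hom_ext ?_ ?_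
      · rw [← RingHom.comp_assoc, ← RingHom.comp_assoc, fibFst_lift, fibFst_lift, RingHom.id_comp]
      · rw [← RingHom.comp_assoc, ← RingHom.comp_assoc, fibSnd_lift, fibSnd_lift, h4]
    rw [sp_comp_assoc, h5, ← sp_comp_assoc, ← sp_comp, Category.assoc, h1]
  have hgb : sp g ≫ D.b.left = sp (fibSec iR hiR) ≫ uB := by
    rw [← D.hbK]
    refine key D.bK hb ?_
    rw [D.hbK, ← Over.comp_left, D.base_of_cls Y hβ l hlt.symm]; rfl
  have hgv : sp g ≫ D.v.left = sp (fibSec iR hiR) ≫ uB := by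
    rw [← D.hvK]
    refine key D.vK hv ?_
    rw [D.hvK, ← Over.comp_left, D.obj_of_cls Y hβ l hlt.symm]; rfl
  let lC : (oC iR hiR uB).left ⟶ Over.mk D.str := Over.homMk (sp g) (by
    change sp g ≫ D.str = (sp (fibSec iR hiR) ≫ uB) ≫ U.hom
    rw [← hgb, Category.assoc, Over.w D.b]; rfl)
  let mC : oC iR hiR uB ⟶ Over.mk D.v := Over.homMk lC (Over.OverMorphism.ext hgv)
  haveI := lift_map Y mC
  have hb' : lC ≫ D.b = (oC iR hiR uB).hom := Over.OverMorphism.ext hgb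
  haveI hn : 𝒴.p.IsHomLift (oC iR hiR uB).hom (Y.map mC ≫ D.n) := by
    rw [← hb']; exact IsHomLift.comp 𝒴.p mC.left D.b (Y.map mC) D.n
  obtain ⟨β', hβ', hfac⟩ := exists_vert_fac Y (toId (oC iR hiR uB)) (g := 𝟙 _) (Y.map mC ≫ D.n)
    (by rw [Category.id_comp]; exact hn)
  have hcls : C.cls (vE Y _ β' hβ') = (yon S).map lC ≫ D.q := by
    rw [cls_mkE_map Y C mC D.lift (vMap_lift Y hβ') hfac.symm, D.cls_eq]; rfl
  have pull : ∀ {o : Over U} (m : o ⟶ oC iR hiR uB) (a : Y.obj o ⟶ Y.obj o) (ha : 𝒴.p.IsHomLift (𝟙 o.left) a),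
      C.cls (vE Y o a ha) = (yon S).map (m.left ≫ lC) ≫ D.q → Y.map m ≫ β' = a ≫ Y.map m := by
    intro o m a ha h
    have e := cls_vE_map Y C m hβ' (pbv_lift Y m β' hβ') (pbv_fac Y m β' hβ').symm
    rw [hcls, ← Functor.map_comp_assoc] at e
    rw [vE_inj Y C ha (pbv_lift Y m β' hβ') (h.trans e.symm), pbv_fac]
  refine ⟨β', hβ', (pull _ (𝟙 _) (lift_id Y _) ?_).trans (Category.id_comp _), pull _ β hβ ?_⟩
  · rw [D.cls_id]
    congr 2
    refine Over.OverMorphism.ext ?_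
    rw [D.hχh, Over.comp_left]
    exact (congrArg sp (fibFst_lift D.χ g₂ hg)).symm.trans (sp_comp _ _).symm
  · rw [← hlt]
    congr 2
    refine Over.OverMorphism.ext ?_
    rw [← hg₂, Over.comp_left]
    exact (congrArg sp (fibSnd_lift D.χ g₂ hg)).symm.trans (sp_comp _ _).symm

include D in
/-- Endomorphisms over the fibre product are determined by the second projection. -/
theorem AutChart.descend_unique (hp : Function.Surjective p) (hsq : ∀ x y, p x = 0 → p y = 0 → x * y = 0)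
    {β₁ β₂ : Y.obj (oC iR hiR uB) ⟶ Y.obj (oC iR hiR uB)} (h₁ : 𝒴.p.IsHomLift (𝟙 (oC iR hiR uB).left) β₁)
    (h₂ : 𝒴.p.IsHomLift (𝟙 (oC iR hiR uB).left) β₂) (k₁ : Y.map (jC iR hiR uB) ≫ β₁ = Y.map (jC iR hiR uB))
    (k₂ : Y.map (jC iR hiR uB) ≫ β₂ = Y.map (jC iR hiR uB))
    {β : Y.obj (oU (sp iR ≫ uB)) ⟶ Y.obj (oU (sp iR ≫ uB))} (hβ : 𝒴.p.IsHomLift (𝟙 (oU (sp iR ≫ uB)).left) β)
    (e₁ : Y.map (sR iR hiR uB) ≫ β₁ = β ≫ Y.map (sR iR hiR uB))
    (e₂ : Y.map (sR iR hiR uB) ≫ β₂ = β ≫ Y.map (sR iR hiR uB)) : β₁ = β₂ := by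
  have hs : Function.Surjective (fibFst : fibRing f p →+* B) := fun b =>
    ⟨fibSec iR hiR b, rfl⟩
  have get : ∀ (β' : Y.obj (oC iR hiR uB) ⟶ Y.obj (oC iR hiR uB)) (h : 𝒴.p.IsHomLift (𝟙 (oC iR hiR uB).left) β'),
      Y.map (jC iR hiR uB) ≫ β' = Y.map (jC iR hiR uB) →
      Y.map (sR iR hiR uB) ≫ β' = β ≫ Y.map (sR iR hiR uB) →
      ∃ g : D.A →+* fibRing f p, ∃ l : (oC iR hiR uB).left ⟶ Over.mk D.str, l.left = sp g ∧
        fibFst.comp g = D.χ ∧ (yon S).map ((sR iR hiR uB).left ≫ l) ≫ D.q = C.cls (vE Y _ β hβ) ∧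
        C.cls (vE Y _ β' h) = (yon S).map l ≫ D.q := by
    intro β' h k e
    have e0 := (cls_vE_map Y C (jC iR hiR uB) h (lift_id Y _) (k.trans (Category.id_comp _).symm)).symm
    rw [D.cls_id] at e0
    obtain ⟨l, hl, hlt⟩ := exists_lift_of_etale hs (jC iR hiR uB).left rfl (fibFst_sq hsq) D.etale
      ((yon S).map D.χh) (C.cls (vE Y _ β' h)) e0.symm
    obtain ⟨l, rfl⟩ := (yon S).map_surjective l
    obtain ⟨g, hg⟩ := exists_sp l.left
    refine ⟨g, l, hg.symm, sp_inj ?_, ?_, hlt.symm⟩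
    · rw [← sp_comp, hg, ← D.hχh]
      exact congrArg Over.Hom.left ((yon S).map_injective ((Functor.map_comp _ _ _).trans hl))
    · rw [Functor.map_comp_assoc, hlt, cls_vE_map Y C (sR iR hiR uB) h hβ e]
  obtain ⟨g₁, l₁, hl₁, hf₁, hs₁, hc₁⟩ := get β₁ h₁ k₁ e₁
  obtain ⟨g₂, l₂, hl₂, hf₂, hs₂, hc₂⟩ := get β₂ h₂ k₂ e₂
  have hu : IsFormallyUnramifiedMor D.q := fun sq l l' a b a' b' => (D.etale sq).unique ⟨a, b⟩ ⟨a', b'⟩
  have hsnd : (sR iR hiR uB).left ≫ l₁ = (sR iR hiR uB).left ≫ l₂ := by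
    refine (yon S).map_injective
      (hom_eq_of_unramified hp (jR iR hiR uB).left rfl hsq hu ?_ (hs₁.trans hs₂.symm))
    rw [← Functor.map_comp, ← Functor.map_comp]
    congr 1
    refine Over.OverMorphism.ext ?_
    simp only [Over.comp_left, hl₁, hl₂]
    change sp p ≫ sp fibSnd ≫ sp g₁ = sp p ≫ sp fibSnd ≫ sp g₂
    rw [sp_comp, sp_comp, sp_comp, sp_comp]
    congr 1
    rw [← RingHom.comp_assoc, ← RingHom.comp_assoc, ← fib_cond, RingHom.comp_assoc, RingHom.comp_assoc, hf₁, hf₂]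
  have hgg : g₁ = g₂ := by
    refine fib_hom_ext (hf₁.trans hf₂.symm) (sp_inj ?_)
    rw [← sp_comp, ← sp_comp, ← hl₁, ← hl₂]
    exact congrArg Over.Hom.left hsnd
  have hll : l₁ = l₂ := Over.OverMorphism.ext (by rw [hl₁, hl₂, hgg])
  exact vE_inj Y C h₁ h₂ (by rw [hc₁, hc₂, hll])

end Fib

end IsoNatUnr
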