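import Groth.Agent.IsoNatUnr.Lift
import Groth.Agent.IsoNatUnr.Elts

/-!
# Local identifications with a value of an unramified functor glue
-/

set_option autoImplicit false
set_option backward.isDefEq.respectTransparency false
set_option backward.isDefEq.respectTransparency.types false

universe u

open CategoryTheory CategoryTheory.Limits AlgebraicGeometry AlgSp FibCat FibLib AlgStLib IsoNat IsoNatLib
open CategoryTheory.Functor (Fiber IsStronglyCartesian)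

noncomputable section

namespace IsoNatUnr

variable {S : Scheme.{u}} {𝒳 : AlgSt.Cat S} [IsFibGrpd 𝒳.p] {U : Over S} (X : overCat U ⥤ᵇ 𝒳)

/-- Every base change of the functor is formally unramified. -/
def UnrMap : Prop :=
  ∀ (V : Over S) (z : 𝒳.p.Fiber V), ∃ (H : Sp S) (a : H ⟶ (yon S).obj V),
    IsFormallyUnramifiedMor a ∧ Nonempty (Classifier X z a)

variable {X}

theorem exists_glob (hX : UnrMap X) {W W₁ W₂ W₁₂ W₀ W₁₀ W₂₀ W₁₂₀ : Over U}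
    (ι₁ : W₁ ⟶ W) (ι₂ : W₂ ⟶ W) (n₁ : W₁₂ ⟶ W₁) (n₂ : W₁₂ ⟶ W₂) (j : W₀ ⟶ W)
    (j₁ : W₁₀ ⟶ W₁) (r₁ : W₁ ⟶ W₁₀) (h₁ : j₁ ≫ r₁ = 𝟙 _)
    (j₂ : W₂₀ ⟶ W₂) (r₂ : W₂ ⟶ W₂₀) (h₂ : j₂ ≫ r₂ = 𝟙 _)
    (k₁ : W₁₀ ⟶ W₀) (k₂ : W₂₀ ⟶ W₀) (hk₁ : k₁ ≫ j = j₁ ≫ ι₁) (hk₂ : k₂ ≫ j = j₂ ≫ ι₂)
    (j₁₂ : W₁₂₀ ⟶ W₁₂) (e₁ : W₁₂₀ ⟶ W₁₀) (e₂ : W₁₂₀ ⟶ W₂₀) (he₁ : e₁ ≫ j₁ = j₁₂ ≫ n₁)
    (he₂ : e₂ ≫ j₂ = j₁₂ ≫ n₂) (hek : e₁ ≫ k₁ = e₂ ≫ k₂) (hn : n₁ ≫ ι₁ = n₂ ≫ ι₂)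
    [IsOpenImmersion ι₁.left.left] [IsOpenImmersion ι₂.left.left]
    (hcov : ∀ w : W.left.left, w ∈ Set.range ι₁.left.left ∨ w ∈ Set.range ι₂.left.left)
    (hlim : ∀ (T : Over S) (a : T ⟶ W₁.left) (b : T ⟶ W₂.left), a ≫ ι₁.left = b ≫ ι₂.left →
      ∃ c : T ⟶ W₁₂.left, c ≫ n₁.left = a ∧ c ≫ n₂.left = b)
    (hext : ∀ {F G : Sp S} {a : F ⟶ G}, IsFormallyUnramifiedMor a → ∀ t t' : (yon S).obj W₁₂.left ⟶ F,
      (yon S).map j₁₂.left ≫ t = (yon S).map j₁₂.left ≫ t' → t ≫ a = t' ≫ a → t = t')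
    (z : 𝒳.p.Fiber W.left) (m₁ : X.obj W₁ ⟶ z.1) (hm₁ : 𝒳.p.IsHomLift ι₁.left m₁)
    (m₂ : X.obj W₂ ⟶ z.1) (hm₂ : 𝒳.p.IsHomLift ι₂.left m₂)
    (m₀ : X.obj W₀ ⟶ z.1) (hm₀ : 𝒳.p.IsHomLift j.left m₀) :
    ∃ m : X.obj W ⟶ z.1, 𝒳.p.IsHomLift (𝟙 W.left) m := by
  obtain ⟨H, a, ha, ⟨C⟩⟩ := hX W.left z
  have restr : ∀ {o o' : Over U} (g : o ⟶ o') {b : o'.left ⟶ W.left} {m : X.obj o' ⟶ z.1},
      𝒳.p.IsHomLift b m → 𝒳.p.IsHomLift (g.left ≫ b) (X.map g ≫ m) := fun g b m h => by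
    haveI := h; haveI := lift_map X g; infer_instance
  have hk₁' : 𝒳.p.IsHomLift (j₁.left ≫ ι₁.left) (X.map k₁ ≫ m₀) := by
    rw [← Over.comp_left, ← hk₁, Over.comp_left]; exact restr k₁ hm₀
  have hk₂' : 𝒳.p.IsHomLift (j₂.left ≫ ι₂.left) (X.map k₂ ≫ m₀) := by
    rw [← Over.comp_left, ← hk₂, Over.comp_left]; exact restr k₂ hm₀
  obtain ⟨m₁', hm₁', e₁'⟩ := exists_adjust X j₁ r₁ h₁ m₁ hm₁ (X.map k₁ ≫ m₀) hk₁'
  obtain ⟨m₂', hm₂', e₂'⟩ := exists_adjust X j₂ r₂ h₂ m₂ hm₂ (X.map k₂ ≫ m₀) hk₂'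
  let t₁ := C.cls (mkE X W₁ ι₁.left m₁' hm₁')
  let t₂ := C.cls (mkE X W₂ ι₂.left m₂' hm₂')
  have r12 : (yon S).map n₁.left ≫ t₁ = (yon S).map n₂.left ≫ t₂ := by
    refine hext ha _ _ ?_ ?_
    · rw [← Functor.map_comp_assoc, ← Functor.map_comp_assoc, ← Over.comp_left, ← Over.comp_left, ← he₁, ← he₂]
      rw [← cls_mkE_map X C (e₁ ≫ j₁) hm₁' (restr (e₁ ≫ j₁) hm₁') rfl,
        ← cls_mkE_map X C (e₂ ≫ j₂) hm₂' (restr (e₂ ≫ j₂) hm₂') rfl]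
      have hb : (e₁ ≫ j₁).left ≫ ι₁.left = (e₂ ≫ j₂).left ≫ ι₂.left := by
        rw [← Over.comp_left, ← Over.comp_left, Category.assoc, Category.assoc, ← hk₁, ← hk₂,
          ← Category.assoc, hek, Category.assoc]
      have hmm : X.map (e₁ ≫ j₁) ≫ m₁' = X.map (e₂ ≫ j₂) ≫ m₂' := by
        rw [X.toFunctor.map_comp, X.toFunctor.map_comp, Category.assoc, Category.assoc, e₁', e₂',
          ← Category.assoc, ← Category.assoc, ← X.toFunctor.map_comp, ← X.toFunctor.map_comp, hek]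
      congr 1
      simp only [Elt.mk.injEq]
      exact ⟨hb, trivial, heq_of_eq hmm⟩
    · simp only [Category.assoc, t₁, t₂, C.cls_comp]
      rw [← Functor.map_comp, ← Functor.map_comp, ← Over.comp_left, ← Over.comp_left, hn]
  haveI : Mono ι₁.left := (Over.forget S).mono_of_mono_map (inferInstanceAs (Mono ι₁.left.left))
  haveI : Mono ι₂.left := (Over.forget S).mono_of_mono_map (inferInstanceAs (Mono ι₂.left.left))
  let Tk : ULift.{u} Bool → Over S := fun i => if i.down then W₁.left else W₂.left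
  let c : ∀ i, Tk i ⟶ W.left := fun i => match i with
    | ⟨true⟩ => ι₁.left
    | ⟨false⟩ => ι₂.left
  let l : ∀ i, (yon S).obj (Tk i) ⟶ H := fun i => match i with
    | ⟨true⟩ => t₁
    | ⟨false⟩ => t₂
  have cross : ∀ (T : Over S) (g₁ : T ⟶ W₁.left) (g₂ : T ⟶ W₂.left), g₁ ≫ ι₁.left = g₂ ≫ ι₂.left →
      (yon S).map g₁ ≫ t₁ = (yon S).map g₂ ≫ t₂ := fun T g₁ g₂ h => by
    obtain ⟨c, rfl, rfl⟩ := hlim T g₁ g₂ h
    rw [Functor.map_comp_assoc, Functor.map_comp_assoc, r12]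
  obtain ⟨t, ht⟩ := AlgSpLib.exists_amalgamation c
    (fun i => match i with
      | ⟨true⟩ => (inferInstance : Flat ι₁.left.left)
      | ⟨false⟩ => (inferInstance : Flat ι₂.left.left))
    (fun i => match i with
      | ⟨true⟩ => (inferInstance : LocallyOfFinitePresentation ι₁.left.left)
      | ⟨false⟩ => (inferInstance : LocallyOfFinitePresentation ι₂.left.left))
    (fun w => (hcov w).elim (fun h => ⟨⟨true⟩, h⟩) fun h => ⟨⟨false⟩, h⟩) l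
    (fun i i' T g g' h => by
      match i, i' with
      | ⟨true⟩, ⟨true⟩ => exact congrArg (fun k => (yon S).map k ≫ t₁) ((cancel_mono ι₁.left).mp h)
      | ⟨false⟩, ⟨false⟩ => exact congrArg (fun k => (yon S).map k ≫ t₂) ((cancel_mono ι₂.left).mp h)
      | ⟨true⟩, ⟨false⟩ => exact cross T g g' h
      | ⟨false⟩, ⟨true⟩ => exact (cross T g' g h.symm).symm)
  obtain ⟨v, b, n, hn', rfl⟩ := exists_mkE X C t
  have hbid : b = 𝟙 W.left := by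
    refine (yon S).map_injective (AlgSpLib.hom_ext_of_cover c
      (fun i => match i with
        | ⟨true⟩ => (inferInstance : Flat ι₁.left.left)
        | ⟨false⟩ => (inferInstance : Flat ι₂.left.left))
      (fun i => match i with
        | ⟨true⟩ => (inferInstance : LocallyOfFinitePresentation ι₁.left.left)
        | ⟨false⟩ => (inferInstance : LocallyOfFinitePresentation ι₂.left.left))
      (fun w => (hcov w).elim (fun h => ⟨⟨true⟩, h⟩) fun h => ⟨⟨false⟩, h⟩) fun i => ?_)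
    have := congrArg (· ≫ a) (ht i)
    simp only [Category.assoc] at this
    erw [C.cls_comp] at this
    change _ ≫ (yon S).map b = _ at this
    refine this.trans ?_
    match i with
    | ⟨true⟩ => simpa [l, t₁, c] using C.cls_comp (mkE X W₁ ι₁.left m₁' hm₁')
    | ⟨false⟩ => simpa [l, t₂, c] using C.cls_comp (mkE X W₂ ι₂.left m₂' hm₂')
  subst hbid
  have hobj : ∀ {T : Over S} (v' : T ⟶ U) (g : T ⟶ W.left) (m' : X.obj (Over.mk v') ⟶ z.1)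
      (hm' : 𝒳.p.IsHomLift g m'),
      (yon S).map g ≫ C.cls (mkE X (Over.mk v) (𝟙 _) n hn') = C.cls (mkE X (Over.mk v') g m' hm') →
      g ≫ v = v' := by
    intro T v' g m' hm' h
    let gh : Over.mk (g ≫ v) ⟶ Over.mk v := Over.homMk g
    exact obj_eq_of_cls X C hm' (restr gh hn') ((cls_mkE_map X C gh hn' _ rfl).trans h)
  have hv : v = W.hom := by
    refine (yon S).map_injective (AlgSpLib.hom_ext_of_cover c
      (fun i => match i with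
        | ⟨true⟩ => (inferInstance : Flat ι₁.left.left)
        | ⟨false⟩ => (inferInstance : Flat ι₂.left.left))
      (fun i => match i with
        | ⟨true⟩ => (inferInstance : LocallyOfFinitePresentation ι₁.left.left)
        | ⟨false⟩ => (inferInstance : LocallyOfFinitePresentation ι₂.left.left))
      (fun w => (hcov w).elim (fun h => ⟨⟨true⟩, h⟩) fun h => ⟨⟨false⟩, h⟩) fun i => ?_)
    rw [← Functor.map_comp, ← Functor.map_comp]
    congr 1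
    match i with
    | ⟨true⟩ => exact (hobj W₁.hom ι₁.left m₁' hm₁' (ht ⟨true⟩)).trans (Over.w ι₁).symm
    | ⟨false⟩ => exact (hobj W₂.hom ι₂.left m₂' hm₂' (ht ⟨false⟩)).trans (Over.w ι₂).symm
  subst hv
  exact ⟨n, hn'⟩

end IsoNatUnr
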