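import Groth.Agent.IsoNatUnr.Elts
import Groth.Agent.AlgStLib.Stack

/-!
# The object twisted by an automorphism on the intersection of two pieces
-/

set_option autoImplicit false
set_option backward.isDefEq.respectTransparency false
set_option backward.isDefEq.respectTransparency.types false

universe u

open CategoryTheory CategoryTheory.Limits AlgebraicGeometry AlgSp FibCat FibLib AlgStLib IsoNat IsoNatLib
open CategoryTheory.Functor (Fiber IsStronglyCartesian)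

noncomputable section

namespace IsoNatUnr

variable {S : Scheme.{u}} {𝒴 : AlgSt.Cat S} [IsFibGrpd 𝒴.p] {U : Over S} (Y : overCat U ⥤ᵇ 𝒴)

/-- Two pieces with a vertical endomorphism over the intersection. -/
structure TwistData where
  /-- the base -/
  X : Over S
  /-- the map to `U` -/
  w : X ⟶ U
  /-- the first piece -/
  X₁ : Over S
  /-- the second piece -/
  X₂ : Over S
  /-- the intersection -/
  X₁₂ : Over S
  /-- the first inclusion -/
  ι₁ : X₁ ⟶ X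
  /-- the second inclusion -/
  ι₂ : X₂ ⟶ X
  /-- the inclusion of the intersection in the first piece -/
  n₁ : X₁₂ ⟶ X₁
  /-- the inclusion of the intersection in the second piece -/
  n₂ : X₁₂ ⟶ X₂
  comm : n₁ ≫ ι₁ = n₂ ≫ ι₂
  [mono : Mono (n₁ ≫ ι₁)]
  lim : ∀ (T : Over S) (a : T ⟶ X₁) (b : T ⟶ X₂), a ≫ ι₁ = b ≫ ι₂ → ∃ c : T ⟶ X₁₂, c ≫ n₁ = a ∧ c ≫ n₂ = b
  ne : ¬ ∃ l : X₂ ⟶ X₁, l ≫ ι₁ = ι₂
  /-- the endomorphism -/
  a : Y.obj (Over.mk (n₁ ≫ ι₁ ≫ w)) ⟶ Y.obj (Over.mk (n₁ ≫ ι₁ ≫ w))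
  ha : 𝒴.p.IsHomLift (𝟙 X₁₂) a

attribute [instance] TwistData.mono

variable {Y} (D : TwistData Y)

/-- The value over a test scheme. -/
abbrev TwistData.L {T : Over S} (g : T ⟶ D.X) : Over U := Over.mk (g ≫ D.w)

/-- The test scheme maps to the intersection. -/
def TwistData.Both {T : Over S} (g : T ⟶ D.X) : Prop := ∃ c : T ⟶ D.X₁₂, c ≫ D.n₁ ≫ D.ι₁ = g

/-- The map to the intersection. -/
def TwistData.toBoth {T : Over S} {g : T ⟶ D.X} (h : D.Both g) : D.L g ⟶ Over.mk (D.n₁ ≫ D.ι₁ ≫ D.w) :=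
  Over.homMk h.choose (by
    change h.choose ≫ D.n₁ ≫ D.ι₁ ≫ D.w = g ≫ D.w
    rw [← Category.assoc D.n₁, ← Category.assoc, h.choose_spec])

lemma TwistData.toBoth_eq {T : Over S} {g : T ⟶ D.X} (h : D.Both g) (c : T ⟶ D.X₁₂)
    (hc : c ≫ D.n₁ ≫ D.ι₁ = g) : (D.toBoth h).left = c :=
  (cancel_mono (D.n₁ ≫ D.ι₁)).mp (h.choose_spec.trans hc.symm)

/-- The endomorphism over a test scheme in the intersection. -/
def TwistData.A {T : Over S} {g : T ⟶ D.X} (h : D.Both g) : Y.obj (D.L g) ⟶ Y.obj (D.L g) :=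
  pbv Y (D.toBoth h) D.a D.ha

lemma TwistData.A_lift {T : Over S} {g : T ⟶ D.X} (h : D.Both g) : 𝒴.p.IsHomLift (𝟙 T) (D.A h) :=
  pbv_lift Y (D.toBoth h) D.a D.ha

instance {T : Over S} {g : T ⟶ D.X} (h : D.Both g) : IsIso (D.A h) :=
  @isIso_of_isHomLift _ _ _ _ 𝒴.p _ _ _ (𝟙 T) _ _ _ (D.A h) (D.A_lift h)

lemma TwistData.A_natural {T T' : Over S} {g : T ⟶ D.X} {g' : T' ⟶ D.X} (m : D.L g' ⟶ D.L g)
    (hm : m.left ≫ g = g') (h' : D.Both g') (h : D.Both g) : D.A h' ≫ Y.map m = Y.map m ≫ D.A h := by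
  have e : D.toBoth h' = m ≫ D.toBoth h := by
    refine Over.OverMorphism.ext ?_
    rw [Over.comp_left]
    exact D.toBoth_eq h' (m.left ≫ h.choose)
      (by rw [Category.assoc, h.choose_spec]; exact hm)
  rw [TwistData.A, TwistData.A, e, pbv_comp]

open Classical in
/-- The transition between the two indices. -/
def TwistData.tw {T : Over S} (g : T ⟶ D.X) (k l : Bool) : Y.obj (D.L g) ⟶ Y.obj (D.L g) :=
  if k = l then 𝟙 _ else if h : D.Both g then (if k then D.A h else inv (D.A h)) else 𝟙 _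

lemma TwistData.tw_lift {T : Over S} (g : T ⟶ D.X) (k l : Bool) : 𝒴.p.IsHomLift (𝟙 T) (D.tw g k l) := by
  unfold TwistData.tw
  split_ifs with h1 h2 h3
  · exact lift_id Y (D.L g)
  · exact D.A_lift h2
  · haveI := D.A_lift h2
    exact @IsHomLift.lift_id_inv _ _ _ _ 𝒴.p _ _ _ (asIso (D.A h2)) (D.A_lift h2)
  · exact lift_id Y (D.L g)

lemma TwistData.tw_self {T : Over S} (g : T ⟶ D.X) (k : Bool) : D.tw g k k = 𝟙 _ := if_pos rfl

lemma TwistData.tw_trans {T : Over S} (g : T ⟶ D.X) (k l m : Bool) :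
    D.tw g k l ≫ D.tw g l m = D.tw g k m := by
  unfold TwistData.tw
  cases k <;> cases l <;> cases m <;> by_cases h : D.Both g <;> simp [h]

lemma TwistData.tw_eq {T : Over S} {g : T ⟶ D.X} (h : D.Both g) : D.tw g true false = D.A h := by
  unfold TwistData.tw
  simp [h]

lemma TwistData.tw_natural {T T' : Over S} {g : T ⟶ D.X} {g' : T' ⟶ D.X} (m : D.L g' ⟶ D.L g)
    (hm : m.left ≫ g = g') (k l : Bool) (h : k ≠ l → D.Both g) :
    D.tw g' k l ≫ Y.map m = Y.map m ≫ D.tw g k l := by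
  by_cases hkl : k = l
  · subst hkl; simp [D.tw_self]
  have hg := h hkl
  obtain ⟨c, hc⟩ := id hg
  have hg' : D.Both g' := ⟨m.left ≫ c, by rw [Category.assoc, hc]; exact hm⟩
  have e := D.A_natural m hm hg' hg
  unfold TwistData.tw
  rw [if_neg hkl, if_neg hkl, dif_pos hg, dif_pos hg']
  cases k
  · simp only [Bool.false_eq_true, if_false]
    rw [IsIso.inv_comp_eq, ← Category.assoc, e, Category.assoc, IsIso.hom_inv_id, Category.comp_id]
  · simp only [if_true]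
    exact e

/-- The pieces, indexed. -/
abbrev TwistData.piece (i : ULift.{u} Bool) : Over S := if i.down then D.X₁ else D.X₂

/-- The sieve of the two pieces. -/
def TwistData.R : Sieve D.X :=
  Sieve.generate (Presieve.singleton D.ι₁ ⊔ Presieve.singleton D.ι₂)

lemma TwistData.mem_R {T : Over S} (g : T ⟶ D.X) :
    D.R.arrows g ↔ (∃ c : T ⟶ D.X₁, c ≫ D.ι₁ = g) ∨ ∃ c : T ⟶ D.X₂, c ≫ D.ι₂ = g := by
  constructor
  · rintro ⟨W, c, f, (hf | hf), rfl⟩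
    · cases hf; exact Or.inl ⟨c, rfl⟩
    · cases hf; exact Or.inr ⟨c, rfl⟩
  · rintro (⟨c, rfl⟩ | ⟨c, rfl⟩)
    · exact ⟨_, c, D.ι₁, Or.inl ⟨⟩, rfl⟩
    · exact ⟨_, c, D.ι₂, Or.inr ⟨⟩, rfl⟩

open Classical in
/-- The index of a member of the sieve. -/
def TwistData.ix {T : Over S} (g : T ⟶ D.X) : Bool := decide (∃ c : T ⟶ D.X₁, c ≫ D.ι₁ = g)

lemma TwistData.factor_ix {T : Over S} {g : T ⟶ D.X} (h : D.R.arrows g) :
    (D.ix g = true → ∃ c : T ⟶ D.X₁, c ≫ D.ι₁ = g) ∧ (D.ix g = false → ∃ c : T ⟶ D.X₂, c ≫ D.ι₂ = g) := by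
  classical
  refine ⟨fun e => of_decide_eq_true e, fun e => ?_⟩
  rcases (D.mem_R g).mp h with h' | h'
  · exact absurd h' (of_decide_eq_false e)
  · exact h'

lemma TwistData.both_of_ne {T T' : Over S} {g : T ⟶ D.X} {g' : T' ⟶ D.X} (c : T' ⟶ T) (hc : c ≫ g = g')
    (h : D.R.arrows g) (h' : D.R.arrows g') (hne : D.ix g' ≠ D.ix g) : D.Both g' := by
  cases e : D.ix g <;> cases e' : D.ix g' <;> simp only [e, e', ne_eq, not_true_eq_false] at hne
  · obtain ⟨a, ha⟩ := (D.factor_ix h').1 e'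
    obtain ⟨b, hb⟩ := (D.factor_ix h).2 e
    obtain ⟨d, hd, -⟩ := D.lim T' a (c ≫ b) (by rw [ha, Category.assoc, hb, hc])
    exact ⟨d, by rw [← Category.assoc, hd, ha]⟩
  · obtain ⟨a, ha⟩ := (D.factor_ix h').2 e'
    obtain ⟨b, hb⟩ := (D.factor_ix h).1 e
    obtain ⟨d, hd, -⟩ := D.lim T' (c ≫ b) a (by rw [ha, Category.assoc, hb, hc])
    exact ⟨d, by rw [← Category.assoc, hd, Category.assoc, hb, hc]⟩

/-- The map of test schemes. -/
abbrev TwistData.Lm (g g' : (Stk.sieveCat D.R).obj) (m : g' ⟶ g) : D.L g'.obj.hom ⟶ D.L g.obj.hom :=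
  Over.homMk m.hom.left (by
    change m.hom.left ≫ g.obj.hom ≫ D.w = g'.obj.hom ≫ D.w
    rw [← Category.assoc, Over.w m.hom])

/-- The twisted functor on the sieve. -/
def TwistData.F : Stk.sieveCat D.R ⥤ᵇ 𝒴 where
  toFunctor :=
    { obj := fun g => Y.obj (D.L g.obj.hom)
      map := fun {g' g} m => D.tw g'.obj.hom (D.ix g'.obj.hom) (D.ix g.obj.hom) ≫ Y.map (D.Lm g g' m)
      map_id := fun g => by
        have : D.Lm g g (𝟙 g) = 𝟙 _ := Over.OverMorphism.ext rfl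
        rw [this, D.tw_self, Category.id_comp]
        exact Y.toFunctor.map_id _
      map_comp := fun {g'' g' g} m' m => by
        have e : D.Lm g g'' (m' ≫ m) = D.Lm g' g'' m' ≫ D.Lm g g' m := Over.OverMorphism.ext rfl
        rw [e, Y.toFunctor.map_comp, Category.assoc, ← Category.assoc (Y.map (D.Lm g' g'' m')),
          ← D.tw_natural (D.Lm g' g'' m') (Over.w m'.hom) _ _
            (fun hne => D.both_of_ne m.hom.left (Over.w m.hom) g.property g'.property hne)]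
        simp only [Category.assoc]
        rw [← Category.assoc (D.tw _ _ _) (D.tw _ _ _), D.tw_trans] }
  w := by
    refine CategoryTheory.Functor.ext (fun g => Y.w_obj _) fun g' g m => ?_
    haveI := D.tw_lift g'.obj.hom (D.ix g'.obj.hom) (D.ix g.obj.hom)
    haveI : 𝒴.p.IsHomLift m.hom.left (Y.map (D.Lm g g' m)) := lift_map Y (D.Lm g g' m)
    haveI h : 𝒴.p.IsHomLift m.hom.left
        (D.tw g'.obj.hom (D.ix g'.obj.hom) (D.ix g.obj.hom) ≫ Y.map (D.Lm g g' m)) :=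
      IsHomLift.comp_lift_id_left 𝒴.p m.hom.left (Y.map (D.Lm g g' m)) _
    exact IsHomLift.fac' 𝒴.p m.hom.left _

/-- The twisted object. -/
theorem TwistData.exists_twist (h𝒴 : Stk.IsStack (AlgSp.J S) 𝒴) (hR : D.R ∈ AlgSp.J S D.X) (X₀ : Over S)
    (j : X₀ ⟶ D.X)
    (h0 : ∀ (o : Over U) (c : o ⟶ Over.mk (D.n₁ ≫ D.ι₁ ≫ D.w)) (d : o.left ⟶ X₀),
      c.left ≫ D.n₁ ≫ D.ι₁ = d ≫ j → Y.map c ≫ D.a = Y.map c) :
    ∃ (z : 𝒴.p.Fiber D.X) (k₁ : Y.obj (D.L D.ι₁) ⟶ z.1) (k₂ : Y.obj (D.L D.ι₂) ⟶ z.1)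
      (k₀ : Y.obj (D.L j) ⟶ z.1),
      𝒴.p.IsHomLift D.ι₁ k₁ ∧ 𝒴.p.IsHomLift D.ι₂ k₂ ∧ 𝒴.p.IsHomLift j k₀ ∧
      (∀ (u₁ : Over.mk (D.n₁ ≫ D.ι₁ ≫ D.w) ⟶ D.L D.ι₁) (u₂ : Over.mk (D.n₁ ≫ D.ι₁ ≫ D.w) ⟶ D.L D.ι₂),
        u₁.left = D.n₁ → u₂.left = D.n₂ → Y.map u₁ ≫ k₁ = D.a ≫ Y.map u₂ ≫ k₂) ∧
      (∀ (o : Over U) (c : o ⟶ D.L D.ι₁) (d : o ⟶ D.L j), c.left ≫ D.ι₁ = d.left ≫ j →
        Y.map c ≫ k₁ = Y.map d ≫ k₀) ∧
      (∀ (o : Over U) (c : o ⟶ D.L D.ι₂) (d : o ⟶ D.L j), c.left ≫ D.ι₂ = d.left ≫ j →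
        Y.map c ≫ k₂ = Y.map d ≫ k₀) := by
  haveI : (Stk.resSieve D.R 𝒴).IsEquivalence := h𝒴.2 D.R hR
  obtain ⟨G, ⟨e⟩⟩ : ∃ G, Nonempty (D.F ≅ (Stk.resSieve D.R 𝒴).obj G) :=
    ⟨(Stk.resSieve D.R 𝒴).objPreimage D.F, ⟨((Stk.resSieve D.R 𝒴).objObjPreimageIso D.F).symm⟩⟩
  let z : 𝒴.p.Fiber D.X := Fiber.mk (p := 𝒴.p) (a := G.obj (Over.mk (𝟙 D.X))) (G.w_obj _)
  -- the comparison on a member of the sieve
  have mkk : ∀ (g : (Stk.sieveCat D.R).obj), ∃ k : Y.obj (D.L g.obj.hom) ⟶ z.1,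
      𝒴.p.IsHomLift g.obj.hom k ∧ k = e.hom.toNatTrans.app g ≫ G.map (toId g.obj) := fun g => by
    haveI : 𝒴.p.IsHomLift (𝟙 g.obj.left) (e.hom.toNatTrans.app g) := BasedNatTrans.isHomLift e.hom rfl
    exact ⟨_, @IsHomLift.comp_lift_id_left _ _ _ _ 𝒴.p _ _ _ _ _ g.obj.hom (G.map (toId g.obj))
      (lift_map G (toId g.obj)) (e.hom.toNatTrans.app g) ‹_›, rfl⟩
  have nat : ∀ {g' g : (Stk.sieveCat D.R).obj} (m : g' ⟶ g),
      D.tw g'.obj.hom (D.ix g'.obj.hom) (D.ix g.obj.hom) ≫ Y.map (D.Lm g g' m) ≫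
        e.hom.toNatTrans.app g ≫ G.map (toId g.obj) = e.hom.toNatTrans.app g' ≫ G.map (toId g'.obj) := by
    intro g' g m
    have := e.hom.toNatTrans.naturality m
    change (D.tw _ _ _ ≫ Y.map (D.Lm g g' m)) ≫ _ = _ ≫ G.map m.hom at this
    rw [← Category.assoc, ← Category.assoc, this, Category.assoc, ← G.toFunctor.map_comp]
    exact congrArg (fun t => e.hom.toNatTrans.app g' ≫ G.map t) (comp_toId m.hom)
  have m₁ : D.R.arrows D.ι₁ := (D.mem_R _).mpr (Or.inl ⟨𝟙 _, Category.id_comp _⟩)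
  have m₂ : D.R.arrows D.ι₂ := (D.mem_R _).mpr (Or.inr ⟨𝟙 _, Category.id_comp _⟩)
  let g₁ : (Stk.sieveCat D.R).obj := ⟨Over.mk D.ι₁, m₁⟩
  let g₂ : (Stk.sieveCat D.R).obj := ⟨Over.mk D.ι₂, m₂⟩
  classical
  have i₁ : D.ix D.ι₁ = true := decide_eq_true ⟨𝟙 _, Category.id_comp _⟩
  have i₂ : D.ix D.ι₂ = false := decide_eq_false D.ne
  obtain ⟨k₁, hk₁, ek₁⟩ := mkk g₁
  obtain ⟨k₂, hk₂, ek₂⟩ := mkk g₂
  -- the restriction to `X₀`
  let R₀ : Sieve X₀ := D.R.pullback j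
  have hR₀ : R₀ ∈ AlgSp.J S X₀ := GrothendieckTopology.pullback_stable _ j hR
  haveI : (Stk.resSieve R₀ 𝒴).IsEquivalence := h𝒴.2 R₀ hR₀
  let Y₀ : overCat X₀ ⥤ᵇ 𝒴 := BasedFunctor.comp (AlgSt.overMap (j ≫ D.w)) Y
  let G₀ : overCat X₀ ⥤ᵇ 𝒴 := BasedFunctor.comp (AlgSt.overMap j) G
  let cmpObj (g : Over X₀) : (AlgSt.overMap (j ≫ D.w)).obj g ⟶ D.L (g.hom ≫ j) :=
    Over.homMk (𝟙 g.left) (by
      change 𝟙 g.left ≫ (g.hom ≫ j) ≫ D.w = g.hom ≫ j ≫ D.w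
      rw [Category.id_comp, Category.assoc])
  let mem (g : (Stk.sieveCat R₀).obj) : (Stk.sieveCat D.R).obj := ⟨Over.mk (g.obj.hom ≫ j), g.property⟩
  let τ : BasedFunctor.comp (Stk.sieveIncl R₀) Y₀ ⟶ BasedFunctor.comp (Stk.sieveIncl R₀) G₀ :=
    { toNatTrans :=
        { app := fun g => Y.map (cmpObj g.obj) ≫ e.hom.toNatTrans.app (mem g)
          naturality := fun g' g m => by
            let m' : mem g' ⟶ mem g := ObjectProperty.homMk (Over.homMk m.hom.left (by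
              change m.hom.left ≫ g.obj.hom ≫ j = g'.obj.hom ≫ j
              rw [← Category.assoc, Over.w m.hom]))
            have hn := e.hom.toNatTrans.naturality m'
            have htw : D.tw (g'.obj.hom ≫ j) (D.ix (g'.obj.hom ≫ j)) (D.ix (g.obj.hom ≫ j)) = 𝟙 _ := by
              unfold TwistData.tw
              split_ifs with h1 h2 h3
              · rfl
              · exact (eq_pbv Y (D.toBoth h2) D.a D.ha (lift_id Y (D.L (g'.obj.hom ≫ j)))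
                  ((Category.id_comp _).trans (h0 _ (D.toBoth h2) g'.obj.hom (by exact h2.choose_spec)).symm)).symm
              · have : D.A h2 = 𝟙 _ := (eq_pbv Y (D.toBoth h2) D.a D.ha (lift_id Y (D.L (g'.obj.hom ≫ j)))
                  ((Category.id_comp _).trans (h0 _ (D.toBoth h2) g'.obj.hom (by exact h2.choose_spec)).symm)).symm
                simp [this]
              · rfl
            change (D.tw (g'.obj.hom ≫ j) (D.ix (g'.obj.hom ≫ j)) (D.ix (g.obj.hom ≫ j)) ≫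
              Y.map (D.Lm (mem g) (mem g') m')) ≫ _ = _ ≫ G.map m'.hom at hn
            rw [htw, Category.id_comp] at hn
            change Y.map ((AlgSt.overMap (j ≫ D.w)).map m.hom) ≫ Y.map (cmpObj g.obj) ≫ _ =
              (Y.map (cmpObj g'.obj) ≫ _) ≫ G.map ((AlgSt.overMap j).map m.hom)
            rw [Category.assoc]
            refine Eq.trans ?_ (congrArg (Y.map (cmpObj g'.obj) ≫ ·) hn)
            rw [← Category.assoc, ← Category.assoc, ← Y.toFunctor.map_comp, ← Y.toFunctor.map_comp]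
            refine congrArg (fun t => Y.map t ≫ _) (Over.OverMorphism.ext ?_)
            exact (Category.comp_id m.hom.left).trans (Category.id_comp m.hom.left).symm }
      isHomLift' := fun g => by
        haveI : 𝒴.p.IsHomLift (𝟙 g.obj.left) (e.hom.toNatTrans.app (mem g)) :=
          BasedNatTrans.isHomLift e.hom rfl
        haveI : 𝒴.p.IsHomLift (𝟙 g.obj.left) (Y.map (cmpObj g.obj)) := lift_map Y (cmpObj g.obj)
        exact IsHomLift.comp_lift_id_right 𝒴.p (𝟙 g.obj.left) (Y.map (cmpObj g.obj)) (e.hom.toNatTrans.app (mem g)) }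
  obtain ⟨θ, hθ⟩ : ∃ θ : Y₀ ⟶ G₀, (Stk.resSieve R₀ 𝒴).map θ = τ :=
    ⟨_, (Stk.resSieve R₀ 𝒴).map_preimage τ⟩
  let c₀ : D.L j ⟶ (AlgSt.overMap (j ≫ D.w)).obj (Over.mk (𝟙 X₀)) :=
    Over.homMk (𝟙 X₀) (by
      change 𝟙 X₀ ≫ 𝟙 X₀ ≫ j ≫ D.w = j ≫ D.w
      rw [Category.id_comp, Category.id_comp])
  let tG : (AlgSt.overMap j).obj (Over.mk (𝟙 X₀)) ⟶ Over.mk (𝟙 D.X) := toId _
  let k₀ : Y.obj (D.L j) ⟶ z.1 := Y.map c₀ ≫ θ.toNatTrans.app (Over.mk (𝟙 X₀)) ≫ G.map tG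
  have hk₀ : 𝒴.p.IsHomLift j k₀ := by
    haveI : 𝒴.p.IsHomLift (𝟙 X₀) (θ.toNatTrans.app (Over.mk (𝟙 X₀))) := BasedNatTrans.isHomLift θ rfl
    haveI : 𝒴.p.IsHomLift (𝟙 X₀) (Y.map c₀) := lift_map Y c₀
    haveI : 𝒴.p.IsHomLift j (G.map tG) := by
      have := lift_map G tG
      rwa [show tG.left = j from Category.id_comp j] at this
    exact IsHomLift.comp_lift_id_left 𝒴.p j (θ.toNatTrans.app (Over.mk (𝟙 X₀)) ≫ G.map tG) (Y.map c₀)
  -- compatibility with `k₀`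
  have comp0 : ∀ (g : (Stk.sieveCat D.R).obj) (o : Over U) (c : o ⟶ D.L g.obj.hom) (d : o ⟶ D.L j),
      c.left ≫ g.obj.hom = d.left ≫ j →
        Y.map c ≫ e.hom.toNatTrans.app g ≫ G.map (toId g.obj) = Y.map d ≫ k₀ := by
    intro g o c d hcd
    obtain ⟨T, v, rfl⟩ := o.mk_surjective
    have hv : d.left ≫ j ≫ D.w = v := Over.w d
    have hmem : R₀.arrows d.left := by
      change D.R.arrows (d.left ≫ j)
      rw [← hcd]
      exact D.R.downward_closed g.property c.left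
    let g' : (Stk.sieveCat R₀).obj := ⟨Over.mk d.left, hmem⟩
    have hθ' : θ.toNatTrans.app (Over.mk d.left) = Y.map (cmpObj (Over.mk d.left)) ≫ e.hom.toNatTrans.app (mem g') :=
      congrArg (fun t => t.toNatTrans.app g') hθ
    have hn := θ.toNatTrans.naturality (toId (Over.mk d.left))
    change Y.map ((AlgSt.overMap (j ≫ D.w)).map (toId (Over.mk d.left))) ≫ _ =
      _ ≫ G.map ((AlgSt.overMap j).map (toId (Over.mk d.left))) at hn
    let m' : mem g' ⟶ g := ObjectProperty.homMk (Over.homMk c.left hcd)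
    have hn' := nat m'
    have htw : D.tw (d.left ≫ j) (D.ix (d.left ≫ j)) (D.ix g.obj.hom) = 𝟙 _ := by
      have hA : ∀ h2 : D.Both (d.left ≫ j), D.A h2 = 𝟙 _ := fun h2 =>
        (eq_pbv Y (D.toBoth h2) D.a D.ha (lift_id Y (D.L (d.left ≫ j)))
          ((Category.id_comp _).trans (h0 _ (D.toBoth h2) d.left (by exact h2.choose_spec)).symm)).symm
      unfold TwistData.tw
      split_ifs with h1 h2 h3
      · rfl
      · exact hA h2
      · simp [hA h2]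
      · rfl
    let iv : (Over.mk v : Over U) ⟶ D.L (d.left ≫ j) :=
      Over.homMk (𝟙 T) (by
        change 𝟙 T ≫ (d.left ≫ j) ≫ D.w = v
        rw [Category.id_comp, Category.assoc, hv])
    let iv₀ : (Over.mk v : Over U) ⟶ (AlgSt.overMap (j ≫ D.w)).obj (Over.mk d.left) :=
      Over.homMk (𝟙 T) (by
        change 𝟙 T ≫ d.left ≫ j ≫ D.w = v
        rw [Category.id_comp, hv])
    have e1 : Y.map c = Y.map iv ≫ Y.map (D.Lm g (mem g') m') := by
      rw [← Y.toFunctor.map_comp]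
      exact congrArg (fun t => Y.map t) (Over.OverMorphism.ext (Category.id_comp c.left).symm)
    have e2 : Y.map d ≫ Y.map c₀ =
        Y.map iv₀ ≫ Y.map ((AlgSt.overMap (j ≫ D.w)).map (toId (Over.mk d.left))) := by
      rw [← Y.toFunctor.map_comp, ← Y.toFunctor.map_comp]
      exact congrArg (fun t => Y.map t) (Over.OverMorphism.ext
        ((Category.comp_id d.left).trans (Category.id_comp d.left).symm))
    have e3 : Y.map iv₀ ≫ Y.map (cmpObj (Over.mk d.left)) = Y.map iv := by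
      rw [← Y.toFunctor.map_comp]
      exact congrArg (fun t => Y.map t) (Over.OverMorphism.ext (Category.comp_id (𝟙 T)))
    have e4 : G.map ((AlgSt.overMap j).map (toId (Over.mk d.left))) ≫ G.map tG = G.map (toId (mem g').obj) := by
      rw [← G.toFunctor.map_comp]
      exact congrArg (fun t => G.map t) (comp_toId _)
    change D.tw (d.left ≫ j) (D.ix (d.left ≫ j)) (D.ix g.obj.hom) ≫ _ = _ at hn'
    rw [htw, Category.id_comp] at hn'
    change Y.map c ≫ _ = Y.map d ≫ Y.map c₀ ≫ θ.toNatTrans.app (Over.mk (𝟙 X₀)) ≫ G.map tG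
    rw [e1, Category.assoc, hn', ← Category.assoc (Y.map d), e2, Category.assoc]
    erw [← Category.assoc (Y.map ((AlgSt.overMap (j ≫ D.w)).map (toId (Over.mk d.left)))), hn, Category.assoc,
      hθ', Category.assoc, e4]
    exact (Category.assoc _ _ _).symm.trans ((congrArg (· ≫ G.map (toId (mem g').obj)) (congrArg (· ≫ e.hom.toNatTrans.app (mem g')) e3)).symm.trans
      (by simp only [Category.assoc]))
  refine ⟨z, k₁, k₂, k₀, hk₁, hk₂, hk₀, ?_, fun o c d h => ek₁ ▸ comp0 g₁ o c d h,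
    fun o c d h => ek₂ ▸ comp0 g₂ o c d h⟩
  intro u₁ u₂ h₁ h₂
  rw [ek₁, ek₂]
  have m₁₂ : D.R.arrows (D.n₁ ≫ D.ι₁) := (D.mem_R _).mpr (Or.inl ⟨D.n₁, rfl⟩)
  let g₁₂ : (Stk.sieveCat D.R).obj := ⟨Over.mk (D.n₁ ≫ D.ι₁), m₁₂⟩
  have i₁₂ : D.ix (D.n₁ ≫ D.ι₁) = true := decide_eq_true ⟨D.n₁, rfl⟩
  have hb : D.Both (D.n₁ ≫ D.ι₁) := ⟨𝟙 _, Category.id_comp _⟩
  let p₁ : g₁₂ ⟶ g₁ := ObjectProperty.homMk (Over.homMk D.n₁ rfl)
  let p₂ : g₁₂ ⟶ g₂ := ObjectProperty.homMk (Over.homMk D.n₂ D.comm.symm)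
  have q := (nat p₁).trans (nat p₂).symm
  change D.tw _ (D.ix (D.n₁ ≫ D.ι₁)) (D.ix D.ι₁) ≫ _ = D.tw _ (D.ix (D.n₁ ≫ D.ι₁)) (D.ix D.ι₂) ≫ _ at q
  rw [i₁₂, i₁, i₂, D.tw_self, Category.id_comp] at q
  replace q := q.trans (congrArg (· ≫ _) (D.tw_eq hb))
  let s : (Over.mk (D.n₁ ≫ D.ι₁ ≫ D.w) : Over U) ⟶ D.L (D.n₁ ≫ D.ι₁) :=
    Over.homMk (𝟙 D.X₁₂) (by
      change 𝟙 _ ≫ (D.n₁ ≫ D.ι₁) ≫ D.w = D.n₁ ≫ D.ι₁ ≫ D.w
      rw [Category.id_comp, Category.assoc])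
  have hsA : Y.map s ≫ D.A hb = D.a ≫ Y.map s := by
    have := pbv_comp Y s (D.toBoth hb) D.a D.ha
    have e : pbv Y (s ≫ D.toBoth hb) D.a D.ha = D.a := by
      refine (eq_pbv Y (s ≫ D.toBoth hb) D.a D.ha D.ha ?_).symm
      have h1 : s ≫ D.toBoth hb = 𝟙 _ :=
        Over.OverMorphism.ext (by
          rw [Over.comp_left, D.toBoth_eq hb (𝟙 _) (Category.id_comp _)]; exact Category.id_comp _)
      rw [h1]
      change D.a ≫ Y.toFunctor.map (𝟙 _) = Y.toFunctor.map (𝟙 _) ≫ D.a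
      rw [Y.toFunctor.map_id, Category.comp_id, Category.id_comp]
    rw [e] at this
    exact this.symm
  have e1 : Y.map u₁ = Y.map s ≫ Y.map (D.Lm g₁ g₁₂ p₁) := by
    rw [← Y.toFunctor.map_comp]
    exact congrArg (fun t => Y.map t) (Over.OverMorphism.ext (h₁.trans (Category.id_comp D.n₁).symm))
  have e2 : Y.map u₂ = Y.map s ≫ Y.map (D.Lm g₂ g₁₂ p₂) := by
    rw [← Y.toFunctor.map_comp]
    exact congrArg (fun t => Y.map t) (Over.OverMorphism.ext (h₂.trans (Category.id_comp D.n₂).symm))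
  rw [e1, e2, Category.assoc, Category.assoc, q, ← Category.assoc (Y.map s), hsA, Category.assoc]

end IsoNatUnr
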