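import Groth.Agent.IsoNatUnr.Plane
import Groth.Agent.IsoNatUnr.Glue
import Groth.Agent.IsoNatUnr.Global
import Groth.Agent.IsoNatLib.Charts

/-!
# Infinitesimal automorphisms vanish when the corresponding functor is unramified
-/

set_option autoImplicit false
set_option backward.isDefEq.respectTransparency false
set_option backward.isDefEq.respectTransparency.types false

universe u

open CategoryTheory CategoryTheory.Limits AlgebraicGeometry AlgSp FibCat FibLib AlgStLib IsoNat IsoNatLib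
open CategoryTheory.Functor (Fiber IsStronglyCartesian)

noncomputable section

namespace IsoNatUnr

variable {S : Scheme.{u}} {U : Over S} {B R : Type u} [CommRing B] [CommRing R]

section Pieces

variable (t : SplitThk B R) (uB : Spec (.of B) ⟶ U.left)

/-- The test scheme of the thickening. -/
abbrev oR : Over U := oU (sp t.i ≫ uB)

/-- The reduction of the thickening. -/
abbrev jα : oU uB ⟶ oR t uB := oHom (sp t.p) (by rw [sp_comp_assoc, t.p_i, sp_id, Category.id_comp])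

/-- The punctured plane over `U`. -/
abbrev oW : Over U := oU (vW t uB)

/-- The reduced punctured plane over `U`. -/
abbrev oW₀ : Over U := oU (vW₀ uB)

/-- The reduction of the punctured plane. -/
abbrev jW : oW₀ uB ⟶ oW t uB := oHom (puncMap t.p) (puncMap_p_vW t uB)

/-- The retraction of the punctured plane. -/
abbrev rW : oW t uB ⟶ oW₀ uB := oHom (puncMap t.i) (puncMap_i_vW₀ t uB)

lemma jW_rW : jW t uB ≫ rW t uB = 𝟙 _ := Over.OverMorphism.ext (Over.OverMorphism.ext (puncMap_p_i t))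

/-- A piece. -/
abbrev oP (f : Pl R) : Over U := oU (sp ((cF f).comp t.i) ≫ uB)

/-- A reduced piece. -/
abbrev oP₀ (fB : Pl B) : Over U := oU (sp (cF fB) ≫ uB)

/-- The inclusion of a piece. -/
abbrev ιP (f : Pl R) (h : f = sP R ∨ f = tP R ∨ f = stP R) : oP t uB f ⟶ oW t uB := oHom (incP f h) (incP_vW t uB f h)

/-- The inclusion of a reduced piece. -/
abbrev kP (fB : Pl B) (h : fB = sP B ∨ fB = tP B ∨ fB = stP B) : oP₀ uB fB ⟶ oW₀ uB :=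
  oHom (incP fB h) (incP_vW₀ uB fB h)

variable {f : Pl R} {fB : Pl B} (hp : plMap t.p f ∣ fB) (hi : plMap t.i fB ∣ f)

include hp in
lemma hiR : (awMap (plMap t.p) hp).comp ((cF f).comp t.i) = cF fB := by
  rw [← RingHom.comp_assoc, awMap_cF, RingHom.comp_assoc, t.p_i, RingHom.comp_id]

include hi in
lemma awMap_i_cF : (awMap (plMap t.i) hi).comp (cF fB) = (cF f).comp t.i := awMap_cF t.i hi

lemma awMap_p_i : (awMap (plMap t.p) hp).comp (awMap (plMap t.i) hi) = RingHom.id _ := by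
  have h : RingHom.id (Pl B) fB ∣ fB := dvd_rfl
  rw [awMap_awMap (plMap t.i) (plMap t.p) hi hp (by rw [plMap_p_i t]; exact h), ← awMap_id h]
  congr 1
  exact plMap_p_i t

include hp hi in
lemma awMap_surj : Function.Surjective (awMap (plMap t.p) hp) := fun x =>
  ⟨awMap (plMap t.i) hi x, RingHom.congr_fun (awMap_p_i t hp hi) x⟩

/-- The retraction of a piece. -/
abbrev rP : oP t uB f ⟶ oP₀ uB fB :=
  oHom (sp (awMap (plMap t.i) hi)) (by rw [sp_comp_assoc, awMap_i_cF t hi])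

lemma jR_rP : jR ((cF f).comp t.i) (hiR t hp) uB ≫ rP t uB hi = 𝟙 _ :=
  Over.OverMorphism.ext (Over.OverMorphism.ext (by
    change sp _ ≫ sp _ = 𝟙 _
    rw [sp_comp, awMap_p_i t hp hi, sp_id]))

lemma kP_jW (h) (h') : kP uB fB h' ≫ jW t uB = jR ((cF f).comp t.i) (hiR t hp) uB ≫ ιP t uB f h :=
  Over.OverMorphism.ext (Over.OverMorphism.ext (puncMap_incP t.p hp h h').symm)

lemma awMap_sq (hfB : plMap t.p f = fB) : ∀ x y, awMap (plMap t.p) hp x = 0 → awMap (plMap t.p) hp y = 0 → x * y = 0 :=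
  awMap_sq_zero (plMap t.p) (fun a b ha hb => sq_zero_mapRingHom R t a b ha hb) f hfB hp

lemma cond_gC (hd : RingHom.id (Pl R) f ∣ stP R) (hd' : RingHom.id (Pl B) fB ∣ stP B) :
    (c12 B).comp (fibFst (f := cF fB) (p := awMap (plMap t.p) hp)) =
      (p12 t).comp ((awMap (RingHom.id _) hd).comp fibSnd) := by
  change (cF (stP B)).comp _ = _
  rw [← awMap_cF_id hd', RingHom.comp_assoc, fib_cond, ← RingHom.comp_assoc, ← RingHom.comp_assoc]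
  congr 1
  exact away_hom_ext fun x => by simp

/-- The map of fibre product rings from a piece to the intersection. -/
def gC (hd : RingHom.id (Pl R) f ∣ stP R) (hd' : RingHom.id (Pl B) fB ∣ stP B) :
    fibRing (cF fB) (awMap (plMap t.p) hp) →+* fibRing (c12 B) (p12 t) :=
  fibLift fibFst ((awMap (RingHom.id _) hd).comp fibSnd) (cond_gC t hp hd hd')

lemma fst_gC (hd : RingHom.id (Pl R) f ∣ stP R) (hd' : RingHom.id (Pl B) fB ∣ stP B) :
    fibFst.comp (gC t hp hd hd') = fibFst := fibFst_lift _ _ _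

lemma snd_gC (hd : RingHom.id (Pl R) f ∣ stP R) (hd' : RingHom.id (Pl B) fB ∣ stP B) :
    fibSnd.comp (gC t hp hd hd') = (awMap (RingHom.id _) hd).comp fibSnd := fibSnd_lift _ _ _

lemma gC_sec (hd : RingHom.id (Pl R) f ∣ stP R) (hd' : RingHom.id (Pl B) fB ∣ stP B)
    (hpst : plMap t.p (stP R) ∣ stP B) :
    (gC t hp hd hd').comp (fibSec ((cF f).comp t.i) (hiR t hp)) =
      fibSec ((cF (stP R)).comp t.i) (hiR t hpst) :=
  fib_hom_ext (by rw [← RingHom.comp_assoc, fst_gC, fibFst_lift]; exact (fibFst_lift _ _ _).symm)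
    (by
      rw [← RingHom.comp_assoc, snd_gC, RingHom.comp_assoc, fibSnd_lift, ← RingHom.comp_assoc, awMap_cF_id]
      exact (fibSnd_lift _ _ _).symm)

end Pieces

variable {𝒴 : AlgSt.Cat S} [IsFibGrpd 𝒴.p] (Y : overCat U ⥤ᵇ 𝒴)

/-- A pullback of an endomorphism is trivial on maps through which it becomes trivial. -/
lemma map_pbv_eq {o o' o'' o₀ : Over U} (m : o ⟶ o') (h : o' ⟶ o'') (a : Y.obj o'' ⟶ Y.obj o'')
    (ha : 𝒴.p.IsHomLift (𝟙 o''.left) a) (q : o ⟶ o₀) (j : o₀ ⟶ o'') (e : m ≫ h = q ≫ j)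
    (h0 : Y.map j ≫ a = Y.map j) : Y.map m ≫ pbv Y h a ha = Y.map m := by
  rw [← pbv_comp Y m h a ha]
  have : pbv Y (m ≫ h) a ha = 𝟙 _ :=
    (eq_pbv Y (m ≫ h) a ha (lift_id Y o) (by
      rw [Category.id_comp, e, Y.toFunctor.map_comp, Category.assoc, h0])).symm
  rw [this, Category.id_comp]

/-- Pullbacks of endomorphisms along a commutative triangle. -/
lemma map_pbv {o o' o'' : Over U} (m : o ⟶ o') (h : o' ⟶ o'') (a : Y.obj o'' ⟶ Y.obj o'')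
    (ha : 𝒴.p.IsHomLift (𝟙 o''.left) a) {b : Y.obj o ⟶ Y.obj o} (hb : 𝒴.p.IsHomLift (𝟙 o.left) b)
    (e : b ≫ Y.map (m ≫ h) = Y.map (m ≫ h) ≫ a) : Y.map m ≫ pbv Y h a ha = b ≫ Y.map m := by
  rw [← pbv_comp Y m h a ha, ← eq_pbv Y (m ≫ h) a ha hb e]

variable {Y} {𝒳 : AlgSt.Cat S} [IsFibGrpd 𝒳.p]

lemma cls_value (φ : FIso 𝒳 𝒴) {X : overCat U ⥤ᵇ 𝒳} (hxy : φ.toEquiv U (objCls X) = objCls Y) (o : Over U) :
    φ.toEquiv o.left (cls (Fiber.mk (p := 𝒳.p) (a := X.obj o) (X.w_obj o))) =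
      cls (Fiber.mk (p := 𝒴.p) (a := Y.obj o) (Y.w_obj o)) := by
  have h := (chartSq φ X Y hxy).comm o.left (cls (Fiber.mk (p := (overCat U).p) (a := o) rfl))
  rw [mapCls_cls] at h
  exact h.trans (mapCls_cls Y _)

variable (Y)

theorem aut_eq_id (h𝒴 : Stk.IsStack (AlgSp.J S) 𝒴) (φ : FIso 𝒳 𝒴) {X : overCat U ⥤ᵇ 𝒳}
    (hxy : φ.toEquiv U (objCls X) = objCls Y) (hX : UnrMap X) {H : Sp S} {aH : H ⟶ (yon S).obj U}
    {C : Classifier Y (zU Y) aH} {uB : Spec (.of B) ⟶ U.left} (D : AutChart Y C uB) (t : SplitThk B R)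
    (α : Y.obj (oR t uB) ⟶ Y.obj (oR t uB)) (hα : 𝒴.p.IsHomLift (𝟙 (oR t uB).left) α)
    (h0 : Y.map (jα t uB) ≫ α = Y.map (jα t uB)) : α = 𝟙 _ := by
  -- the degenerate case
  rcases subsingleton_or_nontrivial R with hR | hR
  · haveI : IsIso (jα t uB) := by
      have hip : t.i.comp t.p = RingHom.id R := RingHom.ext fun x => Subsingleton.elim _ _
      refine ⟨oHom (sp t.i) rfl, ?_, ?_⟩
      · refine Over.OverMorphism.ext (Over.OverMorphism.ext ?_)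
        change sp t.p ≫ sp t.i = 𝟙 _
        rw [sp_comp, t.p_i, sp_id]
      · refine Over.OverMorphism.ext (Over.OverMorphism.ext ?_)
        change sp t.i ≫ sp t.p = 𝟙 _
        rw [sp_comp, hip, sp_id]
    rw [← cancel_epi (Y.map (jα t uB)), h0, Category.comp_id]
  -- the pieces
  let hs : sP R = sP R ∨ sP R = tP R ∨ sP R = stP R := Or.inl rfl
  let ht : tP R = sP R ∨ tP R = tP R ∨ tP R = stP R := Or.inr (Or.inl rfl)
  let hst : stP R = sP R ∨ stP R = tP R ∨ stP R = stP R := Or.inr (Or.inr rfl)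
  let o₁ := oP t uB (sP R)
  let o₂ := oP t uB (tP R)
  let o₁₂ := oP t uB (stP R)
  let ι₁ := ιP t uB (sP R) hs
  let ι₂ := ιP t uB (tP R) ht
  let n₁ : o₁₂ ⟶ o₁ := oHom (sp (awMap (RingHom.id _) dvd_s))
    (by rw [sp_comp_assoc, ← RingHom.comp_assoc, awMap_cF_id])
  let n₂ : o₁₂ ⟶ o₂ := oHom (sp (awMap (RingHom.id _) dvd_t))
    (by rw [sp_comp_assoc, ← RingHom.comp_assoc, awMap_cF_id])
  have hn₁ : n₁ ≫ ι₁ = ιP t uB (stP R) hst :=
    Over.OverMorphism.ext (Over.OverMorphism.ext (incP_awMap dvd_s hs hst))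
  have hn₂ : n₂ ≫ ι₂ = ιP t uB (stP R) hst :=
    Over.OverMorphism.ext (Over.OverMorphism.ext (incP_awMap dvd_t ht hst))
  let hψ : o₁₂ ⟶ oR t uB := oHom (sp (psi t)) (by rw [sp_comp_assoc, psi_i t])
  haveI : Mono (n₁.left ≫ ι₁.left) := by
    rw [← Over.comp_left, hn₁]
    exact (Over.forget S).mono_of_mono_map (inferInstanceAs (Mono (incP (stP R) hst)))
  let br : Over.mk (n₁.left ≫ ι₁.left ≫ (oW t uB).hom) ⟶ o₁₂ :=
    Over.homMk (𝟙 _) (by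
      change 𝟙 _ ≫ o₁₂.hom = n₁.left ≫ ι₁.left ≫ (oW t uB).hom
      rw [Category.id_comp, Over.w ι₁, Over.w n₁])
  let br' : o₁₂ ⟶ Over.mk (n₁.left ≫ ι₁.left ≫ (oW t uB).hom) :=
    Over.homMk (𝟙 _) (by
      change 𝟙 _ ≫ n₁.left ≫ ι₁.left ≫ (oW t uB).hom = o₁₂.hom
      rw [Category.id_comp, Over.w ι₁, Over.w n₁])
  let T : TwistData Y :=
    { X := (oW t uB).left, w := (oW t uB).hom, X₁ := o₁.left, X₂ := o₂.left, X₁₂ := o₁₂.left
      ι₁ := ι₁.left, ι₂ := ι₂.left, n₁ := n₁.left, n₂ := n₂.left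
      comm := by rw [← Over.comp_left, ← Over.comp_left, hn₁, hn₂]
      lim := fun Z a b h => by
        obtain ⟨c, hc₁, hc₂⟩ := incP_lim a.left b.left (congrArg Over.Hom.left h)
        refine ⟨Over.homMk c (by
          rw [← Over.w a, ← hc₁, Category.assoc]
          exact congrArg (c ≫ ·) (Over.w n₁.left).symm), Over.OverMorphism.ext hc₁, Over.OverMorphism.ext hc₂⟩
      ne := fun ⟨l, hl⟩ => incP_ne ⟨l.left, congrArg Over.Hom.left hl⟩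
      a := pbv Y (br ≫ hψ) α hα
      ha := pbv_lift Y (br ≫ hψ) α hα }
  let j := jW t uB
  have hR' : T.R ∈ AlgSp.J S T.X := by
    let Tk : ULift.{u} Bool → Over S := fun i => if i.down then o₁.left else o₂.left
    let c : ∀ i, Tk i ⟶ T.X := fun i => match i with
      | ⟨true⟩ => ι₁.left
      | ⟨false⟩ => ι₂.left
    refine GrothendieckTopology.superset_covering _ ?_ (AlgSpLib.ofArrows_mem_J c
      (fun i => match i with
        | ⟨true⟩ => (inferInstance : Flat (incP (sP R) hs))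
        | ⟨false⟩ => (inferInstance : Flat (incP (tP R) ht)))
      (fun i => match i with
        | ⟨true⟩ => (inferInstance : LocallyOfFinitePresentation (incP (sP R) hs))
        | ⟨false⟩ => (inferInstance : LocallyOfFinitePresentation (incP (tP R) ht)))
      (fun w => (incP_surj w).elim (fun h => ⟨⟨true⟩, h⟩) fun h => ⟨⟨false⟩, h⟩))
    rintro Z g ⟨W', e, f', hf', rfl⟩
    obtain ⟨i⟩ := hf'
    match i with
    | ⟨true⟩ => exact (T.mem_R _).mpr (Or.inl ⟨e, rfl⟩)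
    | ⟨false⟩ => exact (T.mem_R _).mpr (Or.inr ⟨e, rfl⟩)
  -- the reduced intersection
  have hps : plMap t.p (sP R) ∣ sP B := (plMap_sP t.p).dvd
  have hpt : plMap t.p (tP R) ∣ tP B := (plMap_tP t.p).dvd
  have hpst : plMap t.p (stP R) ∣ stP B := (plMap_stP t.p).dvd
  have his : plMap t.i (sP B) ∣ sP R := (plMap_sP t.i).dvd
  have hit : plMap t.i (tP B) ∣ tP R := (plMap_tP t.i).dvd
  have hist : plMap t.i (stP B) ∣ stP R := (plMap_stP t.i).dvd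
  let j₁₂ := jR ((cF (stP R)).comp t.i) (hiR t hpst) uB
  let q₁₂ : oP₀ uB (stP B) ⟶ oU uB := oHom (sp (cF (stP B))) rfl
  have hjψ : j₁₂ ≫ hψ = q₁₂ ≫ jα t uB := by
    refine Over.OverMorphism.ext (Over.OverMorphism.ext ?_)
    change sp (p12 t) ≫ sp (psi t) = sp (cF (stP B)) ≫ sp t.p
    rw [sp_comp, sp_comp, p12_psi t]
  have hT0 : ∀ (o : Over U) (c : o ⟶ Over.mk (T.n₁ ≫ T.ι₁ ≫ T.w)) (d : o.left ⟶ (oW₀ uB).left),
      c.left ≫ T.n₁ ≫ T.ι₁ = d ≫ j.left → Y.map c ≫ T.a = Y.map c := by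
    intro o c d h
    refine map_pbv_eq Y c (br ≫ hψ) α hα ((c ≫ br) ≫ rP t uB hist ≫ q₁₂) (jα t uB) ?_ h0
    simp only [Category.assoc]
    rw [← hjψ, ← Category.assoc c br, ← Category.assoc c br]
    refine Over.OverMorphism.ext (Over.OverMorphism.ext ?_)
    have h' := congrArg (fun g => g.left ≫ (punc R).ι) h
    change (c.left.left ≫ sp (awMap (RingHom.id _) dvd_s) ≫ incP (sP R) hs) ≫ (punc R).ι = (d.left ≫ puncMap t.p) ≫ (punc R).ι at h'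
    rw [incP_awMap dvd_s hs hst, Category.assoc, incP_ι, Category.assoc, puncMap_ι] at h'
    change (c.left.left ≫ 𝟙 _) ≫ sp (psi t) =
      (c.left.left ≫ 𝟙 _) ≫ sp (awMap (plMap t.i) hist) ≫ sp (awMap (plMap t.p) hpst) ≫ sp (psi t)
    rw [Category.comp_id, ← Category.assoc (sp (awMap (plMap t.i) hist)), ← Category.assoc c.left.left]
    congr 1
    rw [← cancel_mono (sp (algebraMap (Pl R) (Localization.Away (stP R))))]
    simp only [Category.assoc, sp_comp]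
    conv_rhs => rw [RingHom.comp_assoc, awMap_comp_algebraMap, ← RingHom.comp_assoc, awMap_comp_algebraMap,
      RingHom.comp_assoc, ← sp_comp, reassoc_of% h']
    rw [h', sp_comp]
    congr 3
    rw [← RingHom.comp_assoc, plMap_p_i_p]
  obtain ⟨z, k₁, k₂, k₀, hk₁, hk₂, hk₀, hk12, hc₁, hc₂⟩ := T.exists_twist h𝒴 hR' (oW₀ uB).left j.left hT0
  let b₁ : o₁ ⟶ T.L T.ι₁ := Over.homMk (𝟙 _) (by
    change 𝟙 _ ≫ ι₁.left ≫ (oW t uB).hom = o₁.hom
    rw [Category.id_comp, Over.w ι₁])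
  let b₂ : o₂ ⟶ T.L T.ι₂ := Over.homMk (𝟙 _) (by
    change 𝟙 _ ≫ ι₂.left ≫ (oW t uB).hom = o₂.hom
    rw [Category.id_comp, Over.w ι₂])
  let b₀ : oW₀ uB ⟶ T.L j.left := Over.homMk (𝟙 _) (by
    change 𝟙 _ ≫ j.left ≫ (oW t uB).hom = (oW₀ uB).hom
    rw [Category.id_comp, Over.w j])
  let K₁ := Y.map b₁ ≫ k₁
  let K₂ := Y.map b₂ ≫ k₂
  let K₀ := Y.map b₀ ≫ k₀
  have hK : ∀ {o o' : Over U} (b : o ⟶ o') {g : o.left ⟶ T.X} {g' : o'.left ⟶ T.X}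
      (k : Y.obj o' ⟶ z.1), b.left ≫ g' = g → 𝒴.p.IsHomLift g' k → 𝒴.p.IsHomLift g (Y.map b ≫ k) :=
    fun b g g' k e h => by
      haveI := h; haveI := lift_map Y b; subst e; infer_instance
  haveI hK₁ : 𝒴.p.IsHomLift ι₁.left K₁ := hK b₁ k₁ (Category.id_comp ι₁.left) hk₁
  haveI hK₂ : 𝒴.p.IsHomLift ι₂.left K₂ := hK b₂ k₂ (Category.id_comp ι₂.left) hk₂
  haveI hK₀ : 𝒴.p.IsHomLift j.left K₀ := hK b₀ k₀ (Category.id_comp j.left) hk₀
  let a₁₂ := pbv Y hψ α hα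
  have hα12 : Y.map n₁ ≫ K₁ = a₁₂ ≫ Y.map n₂ ≫ K₂ := by
    let u₁ : Over.mk (T.n₁ ≫ T.ι₁ ≫ T.w) ⟶ T.L T.ι₁ := Over.homMk T.n₁ rfl
    let u₂ : Over.mk (T.n₁ ≫ T.ι₁ ≫ T.w) ⟶ T.L T.ι₂ := Over.homMk T.n₂ (by
      change T.n₂ ≫ T.ι₂ ≫ T.w = T.n₁ ≫ T.ι₁ ≫ T.w
      rw [← Category.assoc, ← T.comm, Category.assoc])
    have e : Y.map br' ≫ Y.map u₁ ≫ k₁ = Y.map br' ≫ T.a ≫ Y.map u₂ ≫ k₂ :=
      congrArg (Y.map br' ≫ ·) (hk12 u₁ u₂ rfl rfl)
    have e1 : Y.map br' ≫ Y.map u₁ = Y.map n₁ ≫ Y.map b₁ := by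
      rw [← Y.toFunctor.map_comp, ← Y.toFunctor.map_comp]
      exact congrArg (fun k => Y.map k) (Over.OverMorphism.ext
        ((Category.id_comp _).trans (Category.comp_id _).symm))
    have e2 : Y.map br' ≫ Y.map u₂ = Y.map n₂ ≫ Y.map b₂ := by
      rw [← Y.toFunctor.map_comp, ← Y.toFunctor.map_comp]
      exact congrArg (fun k => Y.map k) (Over.OverMorphism.ext
        ((Category.id_comp _).trans (Category.comp_id _).symm))
    have e3 : Y.map br' ≫ T.a = a₁₂ ≫ Y.map br' := by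
      refine map_pbv Y br' (br ≫ hψ) α hα (pbv_lift Y hψ α hα) ?_
      have : br' ≫ br ≫ hψ = hψ := Over.OverMorphism.ext (by simp [br, br'])
      rw [this]
      exact pbv_fac Y hψ α hα
    rw [← Category.assoc, e1, Category.assoc, ← Category.assoc (Y.map br'), e3, Category.assoc,
      ← Category.assoc (Y.map br'), e2, Category.assoc] at e
    exact e
  have comp : ∀ {o : Over U} (c : o ⟶ o₁) (d : o ⟶ oW₀ uB), c ≫ ι₁ = d ≫ j →
      Y.map c ≫ K₁ = Y.map d ≫ K₀ := fun {o} c d h => by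
    change Y.map c ≫ Y.map b₁ ≫ k₁ = Y.map d ≫ Y.map b₀ ≫ k₀
    rw [← Category.assoc, ← Category.assoc, ← Y.toFunctor.map_comp, ← Y.toFunctor.map_comp]
    exact hc₁ o (c ≫ b₁) (d ≫ b₀) (by
      rw [Over.comp_left, Over.comp_left, Category.assoc, Category.assoc]
      simpa [b₁, b₀] using congrArg Over.Hom.left h)
  have comp' : ∀ {o : Over U} (c : o ⟶ o₂) (d : o ⟶ oW₀ uB), c ≫ ι₂ = d ≫ j →
      Y.map c ≫ K₂ = Y.map d ≫ K₀ := fun {o} c d h => by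
    change Y.map c ≫ Y.map b₂ ≫ k₂ = Y.map d ≫ Y.map b₀ ≫ k₀
    rw [← Category.assoc, ← Category.assoc, ← Y.toFunctor.map_comp, ← Y.toFunctor.map_comp]
    exact hc₂ o (c ≫ b₂) (d ≫ b₀) (by
      rw [Over.comp_left, Over.comp_left, Category.assoc, Category.assoc]
      simpa [b₂, b₀] using congrArg Over.Hom.left h)
  -- the global identification
  obtain ⟨z₀, hz₀⟩ := Quotient.exists_rep ((symm φ).toEquiv _ (cls z))
  replace hz₀ : (symm φ).toEquiv _ (cls z) = cls z₀ := hz₀.symm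
  have hval : ∀ o : Over U, (symm φ).toEquiv o.left (cls (Fiber.mk (p := 𝒴.p) (a := Y.obj o) (Y.w_obj o))) =
      cls (Fiber.mk (p := 𝒳.p) (a := X.obj o) (X.w_obj o)) := fun o => by
    change (φ.toEquiv o.left).symm _ = _
    rw [Equiv.symm_apply_eq]
    exact (cls_value φ hxy o).symm
  have trans' : ∀ {o : Over U} (g : o.left ⟶ T.X) (k : Y.obj o ⟶ z.1), 𝒴.p.IsHomLift g k →
      ∃ m : X.obj o ⟶ z₀.1, 𝒳.p.IsHomLift g m := fun {o} g k hk =>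
    exists_hom_transport (symm φ) g (x' := Fiber.mk (p := 𝒴.p) (a := Y.obj o) (Y.w_obj o))
      (y' := Fiber.mk (p := 𝒳.p) (a := X.obj o) (X.w_obj o)) k hk (hval o) hz₀
  obtain ⟨m₁, hm₁⟩ := trans' ι₁.left K₁ hK₁
  obtain ⟨m₂, hm₂⟩ := trans' ι₂.left K₂ hK₂
  obtain ⟨m₀, hm₀⟩ := trans' j.left K₀ hK₀
  let k₁' := kP uB (sP B) (Or.inl rfl)
  let k₂' := kP uB (tP B) (Or.inr (Or.inl rfl))
  let e₁ : oP₀ uB (stP B) ⟶ oP₀ uB (sP B) :=
    oHom (sp (awMap (RingHom.id _) dvd_s)) (by rw [sp_comp_assoc, awMap_cF_id])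
  let e₂ : oP₀ uB (stP B) ⟶ oP₀ uB (tP B) :=
    oHom (sp (awMap (RingHom.id _) dvd_t)) (by rw [sp_comp_assoc, awMap_cF_id])
  let j₁ := jR ((cF (sP R)).comp t.i) (hiR t hps) uB
  let j₂ := jR ((cF (tP R)).comp t.i) (hiR t hpt) uB
  have hk₁' : k₁' ≫ j = j₁ ≫ ι₁ := kP_jW t uB hps hs (Or.inl rfl)
  have hk₂' : k₂' ≫ j = j₂ ≫ ι₂ := kP_jW t uB hpt ht (Or.inr (Or.inl rfl))
  have hej₁ : e₁ ≫ j₁ = j₁₂ ≫ n₁ := by
    refine Over.OverMorphism.ext (Over.OverMorphism.ext ?_)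
    change sp _ ≫ sp _ = sp _ ≫ sp _
    rw [sp_comp, sp_comp]
    congr 1
    exact away_hom_ext fun x => by simp
  have hej₂ : e₂ ≫ j₂ = j₁₂ ≫ n₂ := by
    refine Over.OverMorphism.ext (Over.OverMorphism.ext ?_)
    change sp _ ≫ sp _ = sp _ ≫ sp _
    rw [sp_comp, sp_comp]
    congr 1
    exact away_hom_ext fun x => by simp
  have hek : e₁ ≫ k₁' = e₂ ≫ k₂' :=
    Over.OverMorphism.ext (Over.OverMorphism.ext
      ((incP_awMap dvd_s (Or.inl rfl) (Or.inr (Or.inr rfl))).trans (incP_awMap dvd_t (Or.inr (Or.inl rfl)) _).symm))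
  haveI : IsOpenImmersion ι₁.left.left := inferInstanceAs (IsOpenImmersion (incP (sP R) hs))
  haveI : IsOpenImmersion ι₂.left.left := inferInstanceAs (IsOpenImmersion (incP (tP R) ht))
  obtain ⟨mW, hmW⟩ := exists_glob hX ι₁ ι₂ n₁ n₂ j j₁ (rP t uB his) (jR_rP t uB hps his)
    j₂ (rP t uB hit) (jR_rP t uB hpt hit) k₁' k₂' hk₁' hk₂' j₁₂ e₁ e₂ hej₁ hej₂ hek (hn₁.trans hn₂.symm)
    (fun w => incP_surj w) T.lim
    (fun {F G a} ha s s' h h' => hom_eq_of_unramified (awMap_surj t hpst hist) j₁₂.left rfl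
      (awMap_sq t hpst (plMap_stP t.p)) ha h h')
    z₀ m₁ hm₁ m₂ hm₂ m₀ hm₀
  obtain ⟨γ, hγ⟩ := exists_hom_transport φ (𝟙 (oW t uB).left)
    (x' := Fiber.mk (p := 𝒳.p) (a := X.obj (oW t uB)) (X.w_obj _))
    (y' := Fiber.mk (p := 𝒴.p) (a := Y.obj (oW t uB)) (Y.w_obj _)) mW hmW (cls_value φ hxy (oW t uB))
    (show φ.toEquiv _ (cls z₀) = cls z from (Equiv.symm_apply_eq (φ.toEquiv _)).mp hz₀ |>.symm)
  obtain ⟨γ', hγ', hγ0⟩ := exists_adjust Y j (rW t uB) (jW_rW t uB) γ hγ K₀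
    (by rw [Category.comp_id]; exact hK₀)
  -- the two coboundaries
  have cob : ∀ {o o₀ : Over U} (ι : o ⟶ oW t uB) (K : Y.obj o ⟶ z.1), 𝒴.p.IsHomLift ι.left K →
      ∀ (j' : o₀ ⟶ o) (k' : o₀ ⟶ oW₀ uB), k' ≫ j = j' ≫ ι → Y.map j' ≫ K = Y.map k' ≫ K₀ →
      ∃ β : Y.obj o ⟶ Y.obj o, 𝒴.p.IsHomLift (𝟙 o.left) β ∧ β ≫ K = Y.map ι ≫ γ' ∧
        Y.map j' ≫ β = Y.map j' := by
    intro o o₀ ι K hKl j' k' e e'
    haveI := hKl; haveI := hγ'
    haveI := lift_map Y ι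
    haveI hn : 𝒴.p.IsHomLift ι.left (Y.map ι ≫ γ') :=
      IsHomLift.comp_lift_id_right 𝒴.p ι.left (Y.map ι) γ'
    let β := IsStronglyCartesian.map 𝒴.p ι.left K (g := 𝟙 o.left) (f' := ι.left) (Category.id_comp _).symm
      (Y.map ι ≫ γ')
    haveI hβ : 𝒴.p.IsHomLift (𝟙 o.left) β := IsStronglyCartesian.map_isHomLift 𝒴.p ι.left K (g := 𝟙 o.left)
      (f' := ι.left) (Category.id_comp _).symm (Y.map ι ≫ γ')
    have hfac : β ≫ K = Y.map ι ≫ γ' := IsStronglyCartesian.fac 𝒴.p ι.left K (g := 𝟙 o.left)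
      (f' := ι.left) (Category.id_comp _).symm (Y.map ι ≫ γ')
    refine ⟨β, hβ, hfac, ?_⟩
    haveI := lift_map Y j'
    haveI : 𝒴.p.IsHomLift j'.left (Y.map j' ≫ β) := IsHomLift.comp_lift_id_right 𝒴.p j'.left (Y.map j') β
    apply IsStronglyCartesian.ext 𝒴.p ι.left K j'.left
    rw [Category.assoc, hfac, ← Category.assoc, ← Y.toFunctor.map_comp]
    have e4 : Y.map (j' ≫ ι) = Y.map (k' ≫ j) := congrArg (fun k => Y.map k) e.symm
    rw [e', e4, Y.toFunctor.map_comp, Category.assoc, hγ0]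
  obtain ⟨β₁, hβ₁, fβ₁, zβ₁⟩ := cob ι₁ K₁ hK₁ j₁ k₁' hk₁' (comp j₁ k₁' hk₁'.symm)
  obtain ⟨β₂, hβ₂, fβ₂, zβ₂⟩ := cob ι₂ K₂ hK₂ j₂ k₂' hk₂' (comp' j₂ k₂' hk₂'.symm)
  let c₁ := pbv Y n₁ β₁ hβ₁
  let c₂ := pbv Y n₂ β₂ hβ₂
  haveI hc₁ : 𝒴.p.IsHomLift (𝟙 o₁₂.left) c₁ := pbv_lift Y n₁ β₁ hβ₁
  haveI hc₂ : 𝒴.p.IsHomLift (𝟙 o₁₂.left) c₂ := pbv_lift Y n₂ β₂ hβ₂
  haveI ha₁₂ : 𝒴.p.IsHomLift (𝟙 o₁₂.left) a₁₂ := pbv_lift Y hψ α hα
  have heq : c₁ ≫ a₁₂ = c₂ := by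
    haveI := lift_map Y n₂
    haveI hL : 𝒴.p.IsHomLift (n₂.left ≫ ι₂.left) (Y.map n₂ ≫ K₂) := inferInstance
    haveI : 𝒴.p.IsHomLift (𝟙 o₁₂.left) (c₁ ≫ a₁₂) :=
      IsHomLift.comp_lift_id_right 𝒴.p (𝟙 o₁₂.left) c₁ a₁₂
    apply IsStronglyCartesian.ext 𝒴.p (n₂.left ≫ ι₂.left) (Y.map n₂ ≫ K₂) (𝟙 o₁₂.left)
    have e₁' : c₁ ≫ Y.map n₁ ≫ K₁ = Y.map (n₁ ≫ ι₁) ≫ γ' := by
      rw [← Category.assoc c₁ (Y.map n₁) K₁, pbv_fac, Category.assoc (Y.map n₁) β₁ K₁, fβ₁,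
        ← Category.assoc (Y.map n₁) (Y.map ι₁) γ', ← Y.toFunctor.map_comp]
    have e₂' : c₂ ≫ Y.map n₂ ≫ K₂ = Y.map (n₂ ≫ ι₂) ≫ γ' := by
      rw [← Category.assoc c₂ (Y.map n₂) K₂, pbv_fac, Category.assoc (Y.map n₂) β₂ K₂, fβ₂,
        ← Category.assoc (Y.map n₂) (Y.map ι₂) γ', ← Y.toFunctor.map_comp]
    rw [Category.assoc c₁ a₁₂, ← hα12, e₁', e₂']
    exact congrArg (fun k => Y.map k ≫ γ') (hn₁.trans hn₂.symm)
  -- descent to the fibre product rings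
  obtain ⟨δ₁, hδ₁, zδ₁, sδ₁⟩ := D.exists_descend Y ((cF (sP R)).comp t.i) (hiR t hps) (awMap_surj t hps his)
    (awMap_sq t hps (plMap_sP t.p)) β₁ hβ₁ zβ₁
  obtain ⟨δ₂, hδ₂, zδ₂, sδ₂⟩ := D.exists_descend Y ((cF (tP R)).comp t.i) (hiR t hpt) (awMap_surj t hpt hit)
    (awMap_sq t hpt (plMap_tP t.p)) β₂ hβ₂ zβ₂
  let o := oC ((cF (stP R)).comp t.i) (hiR t hpst) uB
  let g₁ := gC t hps dvd_s dvd_s
  let g₂ := gC t hpt dvd_t dvd_t
  have hg₁ := gC_sec t hps dvd_s dvd_s hpst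
  have hg₂ := gC_sec t hpt dvd_t dvd_t hpst
  let cC₁ : o ⟶ oC ((cF (sP R)).comp t.i) (hiR t hps) uB := oHom (sp g₁) (by rw [sp_comp_assoc, hg₁])
  let cC₂ : o ⟶ oC ((cF (tP R)).comp t.i) (hiR t hpt) uB := oHom (sp g₂) (by rw [sp_comp_assoc, hg₂])
  have hψi : (psiC t).comp t.i = fibSec ((cF (stP R)).comp t.i) (hiR t hpst) :=
    fib_hom_ext (by rw [← RingHom.comp_assoc, psiC, fibFst_lift, fibFst_lift, t.p_i])
      (by rw [← RingHom.comp_assoc, psiC, fibSnd_lift, fibSnd_lift, psi_i t])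
  let hC : o ⟶ oR t uB := oHom (sp (psiC t)) (by rw [sp_comp_assoc, hψi])
  let jc := jC ((cF (stP R)).comp t.i) (hiR t hpst) uB
  let sr := sR ((cF (stP R)).comp t.i) (hiR t hpst) uB
  let d₁ := pbv Y cC₁ δ₁ hδ₁
  let d₂ := pbv Y cC₂ δ₂ hδ₂
  let dα := pbv Y hC α hα
  have jc₁ : jc ≫ cC₁ = jC ((cF (sP R)).comp t.i) (hiR t hps) uB := by
    refine Over.OverMorphism.ext (Over.OverMorphism.ext ?_)
    change sp _ ≫ sp _ = sp _
    rw [sp_comp, fst_gC]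
  have jc₂ : jc ≫ cC₂ = jC ((cF (tP R)).comp t.i) (hiR t hpt) uB := by
    refine Over.OverMorphism.ext (Over.OverMorphism.ext ?_)
    change sp _ ≫ sp _ = sp _
    rw [sp_comp, fst_gC]
  have jcα : jc ≫ hC = jα t uB := by
    refine Over.OverMorphism.ext (Over.OverMorphism.ext ?_)
    change sp _ ≫ sp _ = sp _
    rw [sp_comp, psiC, fibFst_lift]
  have src₁ : sr ≫ cC₁ = n₁ ≫ sR ((cF (sP R)).comp t.i) (hiR t hps) uB := by
    refine Over.OverMorphism.ext (Over.OverMorphism.ext ?_)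
    change sp _ ≫ sp _ = sp _ ≫ sp _
    rw [sp_comp, sp_comp, snd_gC]
  have src₂ : sr ≫ cC₂ = n₂ ≫ sR ((cF (tP R)).comp t.i) (hiR t hpt) uB := by
    refine Over.OverMorphism.ext (Over.OverMorphism.ext ?_)
    change sp _ ≫ sp _ = sp _ ≫ sp _
    rw [sp_comp, sp_comp, snd_gC]
  have srcα : sr ≫ hC = hψ := by
    refine Over.OverMorphism.ext (Over.OverMorphism.ext ?_)
    change sp _ ≫ sp _ = sp _
    rw [sp_comp, psiC, fibSnd_lift]
  have zd₁ : Y.map jc ≫ d₁ = Y.map jc := map_pbv_eq Y jc cC₁ δ₁ hδ₁ (𝟙 _) _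
    (jc₁.trans (Category.id_comp _).symm) zδ₁
  have zd₂ : Y.map jc ≫ d₂ = Y.map jc := map_pbv_eq Y jc cC₂ δ₂ hδ₂ (𝟙 _) _
    (jc₂.trans (Category.id_comp _).symm) zδ₂
  have zdα : Y.map jc ≫ dα = Y.map jc := map_pbv_eq Y jc hC α hα (𝟙 _) _
    (jcα.trans (Category.id_comp _).symm) h0
  have sd₁ : Y.map sr ≫ d₁ = c₁ ≫ Y.map sr := by
    refine map_pbv Y sr cC₁ δ₁ hδ₁ hc₁ ?_
    rw [src₁, Y.toFunctor.map_comp, Category.assoc, sδ₁, ← Category.assoc, pbv_fac, Category.assoc]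
  have sd₂ : Y.map sr ≫ d₂ = c₂ ≫ Y.map sr := by
    refine map_pbv Y sr cC₂ δ₂ hδ₂ hc₂ ?_
    rw [src₂, Y.toFunctor.map_comp, Category.assoc, sδ₂, ← Category.assoc, pbv_fac, Category.assoc]
  have sdα : Y.map sr ≫ dα = a₁₂ ≫ Y.map sr := by
    refine map_pbv Y sr hC α hα ha₁₂ ?_
    rw [srcα]
    exact pbv_fac Y hψ α hα
  haveI hd₁ : 𝒴.p.IsHomLift (𝟙 o.left) d₁ := pbv_lift Y cC₁ δ₁ hδ₁
  haveI hdα : 𝒴.p.IsHomLift (𝟙 o.left) dα := pbv_lift Y hC α hα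
  have key : d₁ ≫ dα = d₂ :=
    D.descend_unique Y ((cF (stP R)).comp t.i) (hiR t hpst) (awMap_surj t hpst hist)
      (awMap_sq t hpst (plMap_stP t.p)) (IsHomLift.comp_lift_id_right 𝒴.p (𝟙 o.left) d₁ dα)
      (pbv_lift Y cC₂ δ₂ hδ₂) (by rw [← Category.assoc, zd₁, zdα]) zd₂ hc₂
      (by rw [← Category.assoc, sd₁, Category.assoc, sdα, ← Category.assoc, heq]) sd₂
  -- the residue
  have hφi : (phi t).comp (fibSec ((cF (stP R)).comp t.i) (hiR t hpst)) = t.i := by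
    refine RingHom.ext fun b => ?_
    change t.i b + res (c12 R (t.i b)) = t.i b
    rw [res_const, add_zero]
  let hΦ : oR t uB ⟶ o := oHom (sp (phi t)) (by rw [sp_comp_assoc, hφi])
  let rB : oR t uB ⟶ oU uB := oHom (sp t.i) rfl
  have hΦC : hΦ ≫ hC = 𝟙 _ := by
    refine Over.OverMorphism.ext (Over.OverMorphism.ext ?_)
    change sp _ ≫ sp _ = 𝟙 _
    rw [sp_comp, phi_psiC, sp_id]
  have hΦ₁ : hΦ ≫ cC₁ = rB ≫ jC ((cF (sP R)).comp t.i) (hiR t hps) uB := by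
    refine Over.OverMorphism.ext (Over.OverMorphism.ext ?_)
    change sp _ ≫ sp _ = sp _ ≫ sp _
    rw [sp_comp, sp_comp]
    exact congrArg sp (RingHom.ext fun c => phi_left t (g₁ c) c.1.2 rfl)
  have hΦ₂ : hΦ ≫ cC₂ = rB ≫ jC ((cF (tP R)).comp t.i) (hiR t hpt) uB := by
    refine Over.OverMorphism.ext (Over.OverMorphism.ext ?_)
    change sp _ ≫ sp _ = sp _ ≫ sp _
    rw [sp_comp, sp_comp]
    exact congrArg sp (RingHom.ext fun c => phi_right t (g₂ c) c.1.2 rfl)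
  have p₁ : Y.map hΦ ≫ d₁ = Y.map hΦ := map_pbv_eq Y hΦ cC₁ δ₁ hδ₁ rB _ hΦ₁ zδ₁
  have p₂ : Y.map hΦ ≫ d₂ = Y.map hΦ := map_pbv_eq Y hΦ cC₂ δ₂ hδ₂ rB _ hΦ₂ zδ₂
  have pα : Y.map hΦ ≫ dα = Y.map hΦ := by
    have : Y.map hΦ ≫ d₁ ≫ dα = Y.map hΦ ≫ d₂ := congrArg (Y.map hΦ ≫ ·) key
    rwa [← Category.assoc, p₁, p₂] at this
  have hid : Y.map hΦ ≫ Y.map hC = 𝟙 _ :=
    ((Y.toFunctor.map_comp hΦ hC).symm.trans (congrArg (fun k => Y.map k) hΦC)).trans (Y.toFunctor.map_id _)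
  have : (Y.map hΦ ≫ dα) ≫ Y.map hC = Y.map hΦ ≫ Y.map hC := congrArg (· ≫ Y.map hC) pα
  rw [Category.assoc, pbv_fac, ← Category.assoc, hid, Category.id_comp] at this
  exact this

end IsoNatUnr
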