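import Groth.Agent.IsoNatUnr.Transfer
import Groth.Agent.IsoNatLib.Charts

/-!
# Etale charts are detected by the classes
-/

set_option autoImplicit false
set_option backward.isDefEq.respectTransparency false
set_option backward.isDefEq.respectTransparency.types false

universe u

open CategoryTheory CategoryTheory.Limits AlgebraicGeometry AlgSp FibCat FibLib AlgStLib IsoNat IsoNatLib

noncomputable section

namespace IsoNatUnr

variable {S : Scheme.{u}} {U : Over S} {𝒳 𝒴 : AlgSt.Cat S} [IsFibGrpd 𝒳.p] [IsFibGrpd 𝒴.p]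

lemma locP_mono {P Q : MorphismProperty Scheme.{u}} (h : P ≤ Q) {F G : Sp S} {f : F ⟶ G} (hf : LocP P f) :
    LocP Q f := fun A B s s' k hs hs' e => h _ (hf s s' k hs hs' e)

/-- Etale charts are detected by the classes. -/
theorem chart_etale (h𝒴 : AlgSt.IsAlgStack Scheme.fppfPrecoverage 𝒴) (φ : FIso 𝒳 𝒴)
    {x : overCat U ⥤ᵇ 𝒳} {y : overCat U ⥤ᵇ 𝒴} (hxy : φ.toEquiv U (objCls x) = objCls y)
    (hx : AlgSt.RepByAlgSpWith AlgSp.IsEtaleMor x) :
    AlgSt.RepByAlgSpWith (LocP @LocallyOfFinitePresentation) y ∧ AlgSt.RepByAlgSpWith AlgSp.IsEtaleMor y := by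
  have hxE : AlgSt.RepByAlgSpWith (LocP @Etale) x :=
    repByAlgSpWith_mono (fun H G a _ hG h => (AlgSpLib.isEtaleMor_iff_locP hG).1 h) hx
  have hl := chart_locP goodSch_lfp h𝒴 φ hxy
    (repByAlgSpWith_mono (fun H G a _ _ h => locP_mono
      (fun X Y g (_ : Etale g) => (inferInstance : LocallyOfFinitePresentation g)) h) hxE)
  have hs := chart_locP goodSch_smooth h𝒴 φ hxy
    (repByAlgSpWith_mono (fun H G a _ _ h => locP_mono
      (fun X Y g (_ : Etale g) => (inferInstance : Smooth g)) h) hxE)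
  have hu := chart_unramified h𝒴 φ hxy
    (repByAlgSpWith_mono (fun H G a _ _ h => locP_mono
      (fun X Y g (_ : Etale g) => ⟨(inferInstance : LocallyOfFiniteType g),
        (inferInstance : FormallyUnramified g)⟩) h) hxE) hl
  refine ⟨hl, ?_⟩
  have both : AlgSt.RepByAlgSpWith
      (LocP @Smooth ⊓ LocP (@LocallyOfFiniteType ⊓ @FormallyUnramified)) y :=
    repByAlgSpWith_inf (good_locP _).bc.precomp_iso hs hu
  refine repByAlgSpWith_mono (fun H G a _ hG h => (AlgSpLib.isEtaleMor_iff_locP hG).2 ?_) both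
  intro A B s s' k hks hks' e
  haveI : Smooth k.left := h.1 s s' k hks hks' e
  haveI : FormallyUnramified k.left := (h.2 s s' k hks hks' e).2
  exact Etale.of_formallyUnramified_of_flat _

end IsoNatUnr
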