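import Groth.Agent.IsoNatUnr.Deform

/-!
# The punctured plane over a split thickening
-/

set_option autoImplicit false
set_option backward.isDefEq.respectTransparency false
set_option backward.isDefEq.respectTransparency.types false

universe u

open CategoryTheory CategoryTheory.Limits AlgebraicGeometry AlgSp FibCat FibLib

noncomputable section

namespace IsoNatUnr

variable {S : Scheme.{u}} {U : Over S} {B R R' : Type u} [CommRing B] [CommRing R] [CommRing R']

/-- The punctured plane. -/
abbrev punc (R : Type u) [CommRing R] : (Spec (.of (Pl R))).Opens :=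
  PrimeSpectrum.basicOpen (sP R) ⊔ PrimeSpectrum.basicOpen (tP R)

lemma range_sp_away (f : Pl R) :
    Set.range (sp (algebraMap (Pl R) (Localization.Away f))) = (PrimeSpectrum.basicOpen f : Set (PrimeSpectrum (Pl R))) := by
  exact PrimeSpectrum.localization_away_comap_range (Localization.Away f) f

lemma range_sp_away_le (f : Pl R) (h : f = sP R ∨ f = tP R ∨ f = stP R) :
    Set.range (sp (algebraMap (Pl R) (Localization.Away f))) ⊆ Set.range (punc R).ι := by
  rw [range_sp_away, Scheme.Opens.range_ι]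
  intro x hx
  rcases h with rfl | rfl | rfl
  · exact Or.inl hx
  · exact Or.inr hx
  · exact Or.inl ((PrimeSpectrum.basicOpen_mul (sP R) (tP R)).le hx).1

/-- The inclusion of a piece. -/
def incP (f : Pl R) (h : f = sP R ∨ f = tP R ∨ f = stP R) :
    Spec (.of (Localization.Away f)) ⟶ (punc R).toScheme :=
  IsOpenImmersion.lift (punc R).ι (sp (algebraMap _ _)) (range_sp_away_le f h)

@[simp] lemma incP_ι (f : Pl R) (h : f = sP R ∨ f = tP R ∨ f = stP R) :
    incP f h ≫ (punc R).ι = sp (algebraMap _ _) := IsOpenImmersion.lift_fac _ _ _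

instance (f : Pl R) : IsOpenImmersion (sp (algebraMap (Pl R) (Localization.Away f))) :=
  inferInstanceAs (IsOpenImmersion (Spec.map (CommRingCat.ofHom (algebraMap (Pl R) (Localization.Away f)))))

instance (f : Pl R) (h : f = sP R ∨ f = tP R ∨ f = stP R) : IsOpenImmersion (incP f h) :=
  haveI : IsOpenImmersion (incP f h ≫ (punc R).ι) := by rw [incP_ι]; infer_instance
  IsOpenImmersion.of_comp (incP f h) (punc R).ι

lemma range_punc_le (g : R →+* R') :
    Set.range ((punc R').ι ≫ sp (plMap g)) ⊆ Set.range (punc R).ι := by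
  rw [Scheme.Opens.range_ι]
  rintro _ ⟨⟨x, hx⟩, rfl⟩
  rcases hx with hx | hx
  · exact Or.inl fun h => hx (by rw [← plMap_sP g]; exact h)
  · exact Or.inr fun h => hx (by rw [← plMap_tP g]; exact h)

/-- Functoriality of the punctured plane. -/
def puncMap (g : R →+* R') : (punc R').toScheme ⟶ (punc R).toScheme :=
  IsOpenImmersion.lift (punc R).ι ((punc R').ι ≫ sp (plMap g)) (range_punc_le g)

@[simp] lemma puncMap_ι (g : R →+* R') : puncMap g ≫ (punc R).ι = (punc R').ι ≫ sp (plMap g) :=
  IsOpenImmersion.lift_fac _ _ _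

lemma puncMap_incP (g : R →+* R') {f : Pl R} {f' : Pl R'} (hd : plMap g f ∣ f') (h) (h') :
    sp (awMap (plMap g) hd) ≫ incP f h = incP f' h' ≫ puncMap g := by
  rw [← cancel_mono (punc R).ι, Category.assoc, Category.assoc, incP_ι, puncMap_ι, ← Category.assoc, incP_ι,
    sp_comp, sp_comp, awMap_comp_algebraMap]

/-- The constants of a localized plane. -/
abbrev cF (f : Pl R) : R →+* Localization.Away f := (algebraMap _ _).comp (cP R)

lemma awMap_cF (g : R →+* R') {f : Pl R} {f' : Pl R'} (hd : plMap g f ∣ f') :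
    (awMap (plMap g) hd).comp (cF f) = (cF f').comp g := by
  rw [← RingHom.comp_assoc, awMap_comp_algebraMap, RingHom.comp_assoc, plMap_cP, RingHom.comp_assoc]

lemma awMap_cF_id {f f' : Pl R} (hd : RingHom.id (Pl R) f ∣ f') :
    (awMap (RingHom.id _) hd).comp (cF f) = cF f' := by
  rw [← RingHom.comp_assoc, awMap_comp_algebraMap, RingHom.comp_id]

lemma incP_awMap {f f' : Pl R} (hd : RingHom.id (Pl R) f ∣ f') (h) (h') :
    sp (awMap (RingHom.id _) hd) ≫ incP f h = incP f' h' := by
  rw [← cancel_mono (punc R).ι, Category.assoc, incP_ι, incP_ι, sp_comp, awMap_comp_algebraMap, RingHom.comp_id]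

variable (t : SplitThk B R)

lemma plMap_p_i : (plMap t.p).comp (plMap t.i) = RingHom.id (Pl B) := by
  rw [← AddMonoidAlgebra.mapRingHom_comp, t.p_i, AddMonoidAlgebra.mapRingHom_id]

lemma plMap_p_i_p : ((plMap t.p).comp (plMap t.i)).comp (plMap t.p) = plMap t.p := by
  rw [plMap_p_i, RingHom.id_comp]

/-- The structure map of the punctured plane over `U`. -/
abbrev vW (uB : Spec (.of B) ⟶ U.left) : (punc R).toScheme ⟶ U.left :=
  (punc R).ι ≫ sp ((cP R).comp t.i) ≫ uB

/-- The structure map of the reduced punctured plane over `U`. -/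
abbrev vW₀ (uB : Spec (.of B) ⟶ U.left) : (punc B).toScheme ⟶ U.left :=
  (punc B).ι ≫ sp (cP B) ≫ uB

lemma incP_vW (uB : Spec (.of B) ⟶ U.left) (f : Pl R) (h) :
    incP f h ≫ vW t uB = sp ((cF f).comp t.i) ≫ uB := by
  rw [← Category.assoc (incP f h), incP_ι, sp_comp_assoc, RingHom.comp_assoc]

lemma incP_vW₀ (uB : Spec (.of B) ⟶ U.left) (f : Pl B) (h) :
    incP f h ≫ vW₀ uB = sp (cF f) ≫ uB := by
  rw [← Category.assoc (incP f h), incP_ι, sp_comp_assoc]

lemma puncMap_p_vW (uB : Spec (.of B) ⟶ U.left) : puncMap t.p ≫ vW t uB = vW₀ uB := by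
  rw [← Category.assoc (puncMap t.p), puncMap_ι, Category.assoc, sp_comp_assoc, ← RingHom.comp_assoc, plMap_cP,
    RingHom.comp_assoc, t.p_i, RingHom.comp_id]

lemma puncMap_i_vW₀ (uB : Spec (.of B) ⟶ U.left) : puncMap t.i ≫ vW₀ uB = vW t uB := by
  rw [← Category.assoc (puncMap t.i), puncMap_ι, Category.assoc, sp_comp_assoc, plMap_cP]

lemma puncMap_p_i : puncMap t.p ≫ puncMap t.i = 𝟙 _ := by
  rw [← cancel_mono (punc B).ι, Category.assoc, puncMap_ι, ← Category.assoc, puncMap_ι, Category.assoc, sp_comp,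
    plMap_p_i, sp_id, Category.comp_id, Category.id_comp]

lemma incP_surj (x : (punc R).toScheme) :
    x ∈ Set.range (incP (sP R) (Or.inl rfl)) ∨ x ∈ Set.range (incP (tP R) (Or.inr (Or.inl rfl))) := by
  have key : ∀ (f : Pl R) (h), x.1 ∈ (PrimeSpectrum.basicOpen f : Set (PrimeSpectrum (Pl R))) →
      x ∈ Set.range (incP f h) := by
    intro f h hx
    rw [← range_sp_away] at hx
    obtain ⟨y, hy⟩ := hx
    refine ⟨y, (punc R).ι.injective ?_⟩
    rw [← Scheme.Hom.comp_apply, incP_ι]
    exact hy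
  rcases x.2 with h | h
  · exact Or.inl (key _ _ h)
  · exact Or.inr (key _ _ h)

lemma incP_lim {T : Scheme.{u}} (a : T ⟶ Spec (.of (Localization.Away (sP R))))
    (b : T ⟶ Spec (.of (Localization.Away (tP R))))
    (h : a ≫ incP (sP R) (Or.inl rfl) = b ≫ incP (tP R) (Or.inr (Or.inl rfl))) :
    ∃ c : T ⟶ Spec (.of (Localization.Away (stP R))),
      c ≫ sp (awMap (RingHom.id _) dvd_s) = a ∧ c ≫ sp (awMap (RingHom.id _) dvd_t) = b := by
  have h' := congrArg (· ≫ (punc R).ι) h
  simp only [Category.assoc, incP_ι] at h'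
  have hle : Set.range (a ≫ sp (algebraMap (Pl R) (Localization.Away (sP R)))) ⊆
      Set.range (sp (algebraMap (Pl R) (Localization.Away (stP R)))) := by
    rintro _ ⟨x, rfl⟩
    rw [range_sp_away]
    refine (PrimeSpectrum.basicOpen_mul (sP R) (tP R)).ge ⟨?_, ?_⟩
    · exact (range_sp_away (sP R)).le ⟨a x, rfl⟩
    · rw [h']; exact (range_sp_away (tP R)).le ⟨b x, rfl⟩
  refine ⟨IsOpenImmersion.lift (sp (algebraMap _ _)) _ hle, ?_, ?_⟩
  · rw [← cancel_mono (sp (algebraMap (Pl R) (Localization.Away (sP R)))), Category.assoc, sp_comp,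
      awMap_comp_algebraMap, RingHom.comp_id, IsOpenImmersion.lift_fac]
  · rw [← cancel_mono (sp (algebraMap (Pl R) (Localization.Away (tP R)))), Category.assoc, sp_comp,
      awMap_comp_algebraMap, RingHom.comp_id, IsOpenImmersion.lift_fac, h']

lemma incP_ne [Nontrivial R] :
    ¬ ∃ l : Spec (.of (Localization.Away (tP R))) ⟶ Spec (.of (Localization.Away (sP R))),
      l ≫ incP (sP R) (Or.inl rfl) = incP (tP R) (Or.inr (Or.inl rfl)) := by
  rintro ⟨l, hl⟩
  obtain ⟨g, rfl⟩ := exists_sp l
  have h := congrArg (· ≫ (punc R).ι) hl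
  simp only [Category.assoc, incP_ι, sp_comp] at h
  have hg := sp_inj h
  have hu : IsUnit (algebraMap (Pl R) (Localization.Away (tP R)) (sP R)) := by
    rw [← RingHom.congr_fun hg (sP R)]
    exact (IsLocalization.Away.algebraMap_isUnit (sP R)).map g
  let m : Multiplicative (ℕ × ℕ) →* R :=
    { toFun := fun a => (0 : R) ^ (Multiplicative.toAdd a).1
      map_one' := by simp
      map_mul' := fun a b => by simp [pow_add] }
  let e : Pl R →+* R := (AddMonoidAlgebra.lift R R (ℕ × ℕ) m).toRingHom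
  have het : e (tP R) = 1 := by simp [e, m]
  have hes : e (sP R) = 0 := by simp [e, m]
  have := hu.map (IsLocalization.Away.lift (tP R) (g := e) (by rw [het]; exact isUnit_one))
  rw [IsLocalization.Away.lift_eq, hes] at this
  exact not_isUnit_zero this

end IsoNatUnr
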