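import Mathlib

/-!
# Fibre products of rings, thickenings of localized plane rings and the residue
-/

set_option autoImplicit false

universe u

open AddMonoidAlgebra

noncomputable section

namespace IsoNatUnr

section Fib

variable {B B' R' A : Type u} [CommRing B] [CommRing B'] [CommRing R'] [CommRing A]

/-- The fibre product of two rings. -/
def fibRing (f : B →+* B') (p : R' →+* B') : Subring (B × R') :=
  (f.comp (RingHom.fst B R')).eqLocus (p.comp (RingHom.snd B R'))

variable {f : B →+* B'} {p : R' →+* B'}

/-- The first projection. -/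
def fibFst : fibRing f p →+* B := (RingHom.fst B R').comp (fibRing f p).subtype

/-- The second projection. -/
def fibSnd : fibRing f p →+* R' := (RingHom.snd B R').comp (fibRing f p).subtype

lemma fib_cond : f.comp (fibFst (f := f) (p := p)) = p.comp fibSnd := RingHom.ext fun c => c.2

/-- The map into the fibre product. -/
def fibLift (a : A →+* B) (b : A →+* R') (h : f.comp a = p.comp b) : A →+* fibRing f p :=
  (a.prod b).codRestrict _ fun x => RingHom.congr_fun h x

@[simp] lemma fibFst_lift (a : A →+* B) (b : A →+* R') (h : f.comp a = p.comp b) :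
    fibFst.comp (fibLift a b h) = a := rfl

@[simp] lemma fibSnd_lift (a : A →+* B) (b : A →+* R') (h : f.comp a = p.comp b) :
    fibSnd.comp (fibLift a b h) = b := rfl

lemma fib_hom_ext {g g' : A →+* fibRing f p} (h₁ : fibFst.comp g = fibFst.comp g')
    (h₂ : fibSnd.comp g = fibSnd.comp g') : g = g' :=
  RingHom.ext fun x => Subtype.ext (Prod.ext (RingHom.congr_fun h₁ x) (RingHom.congr_fun h₂ x))

end Fib

section Away

variable {P P' P'' T : Type u} [CommRing P] [CommRing P'] [CommRing P''] [CommRing T]

/-- The map of localizations away from elements. -/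
def awMap (f : P →+* P') {s : P} {s' : P'} (h : f s ∣ s') :
    Localization.Away s →+* Localization.Away s' :=
  IsLocalization.Away.lift s (g := (algebraMap P' (Localization.Away s')).comp f) <|
    isUnit_of_dvd_unit (map_dvd (algebraMap P' (Localization.Away s')) h)
      (IsLocalization.Away.algebraMap_isUnit s')

@[simp] lemma awMap_algebraMap (f : P →+* P') {s : P} {s' : P'} (h : f s ∣ s') (x : P) :
    awMap f h (algebraMap P _ x) = algebraMap P' _ (f x) :=
  IsLocalization.Away.lift_eq s _ x

lemma awMap_comp_algebraMap (f : P →+* P') {s : P} {s' : P'} (h : f s ∣ s') :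
    (awMap f h).comp (algebraMap P _) = (algebraMap P' _).comp f :=
  RingHom.ext (awMap_algebraMap f h)

lemma away_hom_ext {s : P} {g g' : Localization.Away s →+* T}
    (h : ∀ x, g (algebraMap P _ x) = g' (algebraMap P _ x)) : g = g' :=
  IsLocalization.ringHom_ext (Submonoid.powers s) (RingHom.ext h)

lemma awMap_awMap (f : P →+* P') (g : P' →+* P'') {s : P} {s' : P'} {s'' : P''} (h : f s ∣ s')
    (h' : g s' ∣ s'') (h'' : (g.comp f) s ∣ s'') :
    (awMap g h').comp (awMap f h) = awMap (g.comp f) h'' :=
  away_hom_ext fun x => by simp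

lemma awMap_id {s : P} (h : (RingHom.id P) s ∣ s) : awMap (RingHom.id P) h = RingHom.id _ :=
  away_hom_ext fun x => by simp

/-- The kernel of the map of localizations squares to zero. -/
lemma awMap_sq_zero (f : P →+* P') (hf : ∀ a b, f a = 0 → f b = 0 → a * b = 0) (s : P) {s' : P'}
    (hs : f s = s') (h : f s ∣ s') (x y : Localization.Away s) (hx : awMap f h x = 0)
    (hy : awMap f h y = 0) : x * y = 0 := by
  have key : ∀ x, awMap f h x = 0 →
      ∃ (n : ℕ) (a : P), f a = 0 ∧ x * algebraMap P _ (s ^ n) = algebraMap P _ a := by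
    intro x hx
    obtain ⟨n, a, ha⟩ := IsLocalization.Away.surj s x
    have h0 : algebraMap P' (Localization.Away s') (f a) = 0 := by
      rw [← awMap_algebraMap f h, ← ha, map_mul, hx, zero_mul]
    obtain ⟨⟨m, k, rfl⟩, hm⟩ := (IsLocalization.map_eq_zero_iff (Submonoid.powers s') _ _).mp h0
    exact ⟨n + k, s ^ k * a, by rw [map_mul, map_pow, hs]; exact hm,
      by rw [← map_pow] at ha; rw [pow_add, map_mul, ← mul_assoc, ha, map_mul, mul_comm]⟩
  obtain ⟨n, a, ha, ha'⟩ := key x hx
  obtain ⟨m, b, hb, hb'⟩ := key y hy
  have : x * y * algebraMap P _ (s ^ (n + m)) = 0 := by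
    rw [pow_add, map_mul, mul_mul_mul_comm, ha', hb', ← map_mul, hf a b ha hb, map_zero]
  exact ((IsLocalization.map_units (Localization.Away s)
    (⟨s ^ (n + m), n + m, rfl⟩ : Submonoid.powers s)).mul_left_eq_zero).mp this

end Away

section Thick

/-- A split square-zero thickening. -/
structure SplitThk (B R : Type u) [CommRing B] [CommRing R] where
  /-- the section -/
  i : B →+* R
  /-- the projection -/
  p : R →+* B
  p_i : p.comp i = RingHom.id B
  sq : ∀ x y, p x = 0 → p y = 0 → x * y = 0

variable {B R P : Type u} [CommRing B] [CommRing R] [CommRing P] (t : SplitThk B R)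

lemma SplitThk.p_i_apply (b : B) : t.p (t.i b) = b := RingHom.congr_fun t.p_i b

lemma SplitThk.ker_sub (r : R) : t.p (r - t.i (t.p r)) = 0 := by rw [map_sub, t.p_i_apply, sub_self]

/-- The twist of the projection by an element. -/
def twistHom (c : R →+* P) (v : P) : R →+* P where
  toFun r := c (t.i (t.p r)) + c (r - t.i (t.p r)) * v
  map_one' := by simp
  map_zero' := by simp
  map_add' x y := by simp only [map_add, map_sub]; ring
  map_mul' x y := by
    have hm := congrArg c (t.sq _ _ (t.ker_sub x) (t.ker_sub y))
    simp only [map_mul, map_sub, map_zero] at hm ⊢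
    linear_combination (v - v ^ 2) * hm

lemma twistHom_apply (c : R →+* P) (v : P) (r : R) :
    twistHom t c v r = c (t.i (t.p r)) + c (r - t.i (t.p r)) * v := rfl

end Thick

section Plane

variable (R : Type u) [CommRing R]

/-- The polynomial plane. -/
abbrev Pl : Type u := AddMonoidAlgebra R (ℕ × ℕ)

/-- The Laurent torus. -/
abbrev Lt : Type u := AddMonoidAlgebra R (ℤ × ℤ)

/-- The Laurent line times a line. -/
abbrev Ll : Type u := AddMonoidAlgebra R (ℤ × ℕ)

/-- The line times a Laurent line. -/
abbrev Lr : Type u := AddMonoidAlgebra R (ℕ × ℤ)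

/-- The first coordinate. -/
abbrev sP : Pl R := single (1, 0) 1

/-- The second coordinate. -/
abbrev tP : Pl R := single (0, 1) 1

/-- The product of the coordinates. -/
abbrev stP : Pl R := sP R * tP R

/-- The constants of the plane. -/
def cP : R →+* Pl R := singleZeroRingHom

variable {R} in
lemma cP_apply (r : R) : cP R r = single 0 r := rfl

variable {B : Type u} [CommRing B]

variable {R} in
/-- Base change of the plane. -/
abbrev plMap (f : R →+* B) : Pl R →+* Pl B := mapRingHom (ℕ × ℕ) f

variable {R} in
lemma plMap_cP (f : R →+* B) : (plMap f).comp (cP R) = (cP B).comp f := by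
  ext r : 1
  simp [cP_apply]

variable {R} in
lemma plMap_sP (f : R →+* B) : plMap f (sP R) = sP B := by simp

variable {R} in
lemma plMap_tP (f : R →+* B) : plMap f (tP R) = tP B := by simp

variable {R} in
lemma plMap_stP (f : R →+* B) : plMap f (stP R) = stP B := by rw [map_mul, plMap_sP, plMap_tP]

lemma sq_zero_mapRingHom {M : Type} [AddCommMonoid M] (t : SplitThk B R) (x y : AddMonoidAlgebra R M)
    (hx : mapRingHom M t.p x = 0) (hy : mapRingHom M t.p y = 0) : x * y = 0 := by
  classical
  have hx' : ∀ a, t.p (x.coeff a) = 0 := fun a => by rw [← coeff_mapRingHom, hx]; rfl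
  have hy' : ∀ a, t.p (y.coeff a) = 0 := fun a => by rw [← coeff_mapRingHom, hy]; rfl
  ext m
  rw [coeff_mul]
  simp [Finsupp.sum, t.sq _ _ (hx' _) (hy' _)]

/-- The exponents of the plane in the torus. -/
def eP : ℕ × ℕ →+ ℤ × ℤ := (Nat.castAddMonoidHom ℤ).prodMap (Nat.castAddMonoidHom ℤ)

/-- The exponents of the plane in the left strip. -/
def eL : ℕ × ℕ →+ ℤ × ℕ := (Nat.castAddMonoidHom ℤ).prodMap (AddMonoidHom.id ℕ)

/-- The exponents of the plane in the right strip. -/
def eR : ℕ × ℕ →+ ℕ × ℤ := (AddMonoidHom.id ℕ).prodMap (Nat.castAddMonoidHom ℤ)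

/-- The exponents of the left strip in the torus. -/
def eL' : ℤ × ℕ →+ ℤ × ℤ := (AddMonoidHom.id ℤ).prodMap (Nat.castAddMonoidHom ℤ)

/-- The exponents of the right strip in the torus. -/
def eR' : ℕ × ℤ →+ ℤ × ℤ := (Nat.castAddMonoidHom ℤ).prodMap (AddMonoidHom.id ℤ)

lemma isUnit_single_one {M : Type} [AddCommMonoid M] {a b : M} (h : a + b = 0) :
    IsUnit (single a (1 : R) : AddMonoidAlgebra R M) :=
  IsUnit.of_mul_eq_one (single b 1) (by rw [single_mul_single, h, one_mul]; rfl)

/-- The localization in the torus. -/
def th : Localization.Away (stP R) →+* Lt R :=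
  IsLocalization.Away.lift (stP R) (g := mapDomainRingHom R eP) <| by
    simp only [map_mul, mapDomainRingHom_apply, mapDomain_single]
    exact (isUnit_single_one R (b := ((-1, 0) : ℤ × ℤ)) (by simp [eP])).mul
      (isUnit_single_one R (b := ((0, -1) : ℤ × ℤ)) (by simp [eP]))

/-- The left localization in the left strip. -/
def thL : Localization.Away (sP R) →+* Ll R :=
  IsLocalization.Away.lift (sP R) (g := mapDomainRingHom R eL) <| by
    simp only [mapDomainRingHom_apply, mapDomain_single]
    exact isUnit_single_one R (b := ((-1, 0) : ℤ × ℕ)) (by simp [eL])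

/-- The right localization in the right strip. -/
def thR : Localization.Away (tP R) →+* Lr R :=
  IsLocalization.Away.lift (tP R) (g := mapDomainRingHom R eR) <| by
    simp only [mapDomainRingHom_apply, mapDomain_single]
    exact isUnit_single_one R (b := ((0, -1) : ℕ × ℤ)) (by simp [eR])

lemma th_algebraMap (x : Pl R) : th R (algebraMap _ _ x) = mapDomainRingHom R eP x :=
  IsLocalization.Away.lift_eq _ _ x

variable {R}

lemma dvd_s : RingHom.id (Pl R) (sP R) ∣ stP R := dvd_mul_right _ _

lemma dvd_t : RingHom.id (Pl R) (tP R) ∣ stP R := dvd_mul_left _ _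

lemma th_left (x : Localization.Away (sP R)) :
    th R (awMap (RingHom.id _) dvd_s x) = mapDomainRingHom R eL' (thL R x) := by
  refine RingHom.congr_fun (away_hom_ext (g := (th R).comp (awMap (RingHom.id _) dvd_s))
    (g' := (mapDomainRingHom R eL').comp (thL R)) fun y => ?_) x
  simp only [RingHom.comp_apply, awMap_algebraMap, th_algebraMap, RingHom.id_apply]
  rw [thL, IsLocalization.Away.lift_eq, ← RingHom.comp_apply, ← mapDomainRingHom_comp]
  rfl

lemma th_right (x : Localization.Away (tP R)) :
    th R (awMap (RingHom.id _) dvd_t x) = mapDomainRingHom R eR' (thR R x) := by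
  refine RingHom.congr_fun (away_hom_ext (g := (th R).comp (awMap (RingHom.id _) dvd_t))
    (g' := (mapDomainRingHom R eR').comp (thR R)) fun y => ?_) x
  simp only [RingHom.comp_apply, awMap_algebraMap, th_algebraMap, RingHom.id_apply]
  rw [thR, IsLocalization.Away.lift_eq, ← RingHom.comp_apply, ← mapDomainRingHom_comp]
  rfl

/-- The residue. -/
def res : Localization.Away (stP R) →+ R where
  toFun x := (th R x).coeff (-1, -1)
  map_zero' := by simp
  map_add' x y := by simp

lemma res_left (x : Localization.Away (sP R)) : res (awMap (RingHom.id _) dvd_s x) = 0 := by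
  change (th R _).coeff (-1, -1) = 0
  rw [th_left, mapDomainRingHom_apply]
  refine Finsupp.mapDomain_notin_range _ _ fun ⟨a, ha⟩ => ?_
  simp [eL', Prod.ext_iff] at ha

lemma res_right (x : Localization.Away (tP R)) : res (awMap (RingHom.id _) dvd_t x) = 0 := by
  change (th R _).coeff (-1, -1) = 0
  rw [th_right, mapDomainRingHom_apply]
  refine Finsupp.mapDomain_notin_range _ _ fun ⟨a, ha⟩ => ?_
  simp [eR', Prod.ext_iff] at ha

variable {B' : Type u} [CommRing B']

lemma th_natural (f : R →+* B') (h : plMap f (stP R) ∣ stP B') (x : Localization.Away (stP R)) :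
    th B' (awMap (plMap f) h x) = mapRingHom (ℤ × ℤ) f (th R x) := by
  refine RingHom.congr_fun (away_hom_ext (g := (th B').comp (awMap (plMap f) h))
    (g' := (mapRingHom (ℤ × ℤ) f).comp (th R)) fun y => ?_) x
  simp only [RingHom.comp_apply, awMap_algebraMap, th_algebraMap]
  exact (RingHom.congr_fun (mapRingHom_comp_mapDomainRingHom f eP) y).symm

lemma th_const (r : R) : th R (algebraMap _ _ (cP R r)) = single (0 : ℤ × ℤ) r := by
  rw [th_algebraMap, cP_apply, mapDomainRingHom_apply, mapDomain_single, map_zero]

variable (R) in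
/-- The inverse of the product of the coordinates. -/
def uv : Localization.Away (stP R) := IsLocalization.Away.invSelf (stP R)

lemma th_uv : th R (uv R) = single ((-1, -1) : ℤ × ℤ) (1 : R) := by
  have h := congrArg (th R) (IsLocalization.Away.mul_invSelf (S := Localization.Away (stP R)) (stP R))
  rw [map_mul, th_algebraMap, map_one] at h
  have h1 : single ((-1, -1) : ℤ × ℤ) (1 : R) * mapDomainRingHom R eP (stP R) = 1 := by
    simp [eP, single_mul_single, one_def, Prod.zero_eq_mk]
  calc th R (uv R) = (single ((-1, -1) : ℤ × ℤ) (1 : R) * mapDomainRingHom R eP (stP R)) * th R (uv R) := by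
        rw [h1, one_mul]
    _ = _ := by rw [mul_assoc]; erw [h]; rw [mul_one]

variable {B : Type u} [CommRing B] (t : SplitThk B R)

/-- The constants of the localized plane. -/
abbrev c12 (R : Type u) [CommRing R] : R →+* Localization.Away (stP R) := (algebraMap _ _).comp (cP R)

/-- The projection of the localized plane. -/
abbrev p12 : Localization.Away (stP R) →+* Localization.Away (stP B) :=
  awMap (plMap t.p) (plMap_stP t.p).dvd

/-- The cocycle. -/
def psi : R →+* Localization.Away (stP R) := twistHom t (c12 R) (uv R)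

lemma p12_psi : (p12 t).comp (psi t) = (c12 B).comp t.p := by
  ext r
  rw [RingHom.comp_apply, psi, twistHom_apply, map_add, map_mul]
  simp [cP_apply, t.p_i_apply]

lemma psi_i : (psi t).comp t.i = (c12 R).comp t.i := by
  ext b
  simp [psi, twistHom_apply, t.p_i_apply]

/-- The fibre product ring of the torus. -/
abbrev C12 : Subring (B × Localization.Away (stP R)) := fibRing (c12 B) (p12 t)

/-- The cocycle, with its reduction. -/
def psiC : R →+* C12 t := fibLift t.p (psi t) (p12_psi t).symm

lemma res_const (r : R) : res (c12 R r) = 0 := by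
  change (th R _).coeff (-1, -1) = 0
  rw [RingHom.comp_apply, th_const]
  simp

/-- The residue homomorphism. -/
def phi : C12 t →+* R where
  toFun c := t.i c.1.1 + res c.1.2
  map_zero' := by simp
  map_one' := by
    have : res (1 : Localization.Away (stP R)) = 0 := by simpa using res_const (R := R) 1
    simp [this]
  map_add' x y := by simp only [Subring.coe_add, Prod.fst_add, Prod.snd_add, map_add]; ring
  map_mul' := by
    classical
    rintro ⟨⟨b, x⟩, hx⟩ ⟨⟨b', y⟩, hy⟩
    change c12 B b = p12 t x at hx
    change c12 B b' = p12 t y at hy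
    change t.i (b * b') + (th R (x * y)).coeff (-1, -1) =
      (t.i b + (th R x).coeff (-1, -1)) * (t.i b' + (th R y).coeff (-1, -1))
    have key : ∀ {b x}, c12 B b = p12 t x →
        mapRingHom (ℤ × ℤ) t.p (th R x - single 0 (t.i b)) = 0 ∧ t.p ((th R x).coeff (-1, -1)) = 0 := by
      intro b x h
      have h' := congrArg (th B) h
      rw [RingHom.comp_apply, th_const, th_natural] at h'
      refine ⟨by rw [map_sub, mapRingHom_single, t.p_i_apply, ← h', sub_self], ?_⟩
      rw [← coeff_mapRingHom, ← h']
      simp
    obtain ⟨h1, h1'⟩ := key hx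
    obtain ⟨h2, h2'⟩ := key hy
    have h3 := sq_zero_mapRingHom R t _ _ h1 h2
    have e : th R (x * y) = single 0 (t.i b) * th R y + th R x * single 0 (t.i b') -
        single 0 (t.i b) * single 0 (t.i b') := by
      rw [map_mul]; linear_combination h3
    rw [e, single_mul_single]
    simp only [coeff_sub, coeff_add, Finsupp.coe_sub, Finsupp.coe_add, Pi.sub_apply, Pi.add_apply,
      coeff_single_zero_mul, coeff_mul_single_zero, coeff_single, map_mul, add_zero]
    rw [Finsupp.single_eq_of_ne (by simp), sub_zero]
    linear_combination -(t.sq _ _ h1' h2')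

lemma phi_psiC : (phi t).comp (psiC t) = RingHom.id R := by
  ext r
  change t.i (t.p r) + (th R (psi t r)).coeff (-1, -1) = r
  rw [psi, twistHom_apply, map_add, map_mul, RingHom.comp_apply, RingHom.comp_apply, th_const, th_const, th_uv,
    single_mul_single]
  simp

lemma phi_left (c : C12 t) (x : Localization.Away (sP R)) (h : c.1.2 = awMap (RingHom.id _) dvd_s x) :
    phi t c = t.i c.1.1 := by
  change t.i c.1.1 + res c.1.2 = _
  rw [h, res_left, add_zero]

lemma phi_right (c : C12 t) (x : Localization.Away (tP R)) (h : c.1.2 = awMap (RingHom.id _) dvd_t x) :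
    phi t c = t.i c.1.1 := by
  change t.i c.1.1 + res c.1.2 = _
  rw [h, res_right, add_zero]

end Plane

end IsoNatUnr
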