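import Groth.Agent.IsoNatUnr.AutTriv
import Groth.Agent.AlgStLib.Descent

/-!
# Unramified charts are detected by the classes
-/

set_option autoImplicit false
set_option backward.isDefEq.respectTransparency false
set_option backward.isDefEq.respectTransparency.types false

universe u

open CategoryTheory CategoryTheory.Limits AlgebraicGeometry AlgSp FibCat FibLib AlgStLib IsoNat IsoNatLib
open CategoryTheory.Functor (Fiber IsStronglyCartesian)
open scoped TensorProduct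

noncomputable section

namespace IsoNatUnr

variable {S : Scheme.{u}} {U : Over S} {𝒳 𝒴 : AlgSt.Cat S} [IsFibGrpd 𝒳.p] [IsFibGrpd 𝒴.p]

lemma unrMap_of_locP {X : overCat U ⥤ᵇ 𝒳}
    (hX : AlgSt.RepByAlgSpWith (LocP (@LocallyOfFiniteType ⊓ @FormallyUnramified)) X) : UnrMap X := fun V z => by
  haveI := isFibGrpd_overCat (C := Over S) U
  obtain ⟨H, a, hH, hP, -, hC⟩ := exists_classifier hX z
  refine ⟨H, a, (AlgSpLib.isFormallyUnramifiedMor_iff_locP hH (IsAlgSpace.yon_obj _) a).2 ?_, hC⟩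
  exact fun W T s s' h hs hs' e => (hP s s' h hs hs' e).2

/-- The split thickening of the diagonal. -/
def diagThk (A B : Type u) [CommRing A] [CommRing B] [Algebra A B] :
    SplitThk B ((B ⊗[A] B) ⧸ (KaehlerDifferential.ideal A B) ^ 2) where
  i := (Ideal.Quotient.mk _).comp (Algebra.TensorProduct.includeLeft (R := A) (S := A) (A := B) (B := B)).toRingHom
  p := Ideal.Quotient.lift _ (Algebra.TensorProduct.lmul' A (S := B)).toRingHom fun a ha =>
    Ideal.pow_le_self two_ne_zero ha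
  p_i := RingHom.ext fun b => by simp
  sq x y hx hy := by
    obtain ⟨x, rfl⟩ := Ideal.Quotient.mk_surjective x
    obtain ⟨y, rfl⟩ := Ideal.Quotient.mk_surjective y
    rw [Ideal.Quotient.lift_mk] at hx hy
    rw [← map_mul, Ideal.Quotient.eq_zero_iff_mem, pow_two]
    exact Ideal.mul_mem_mul hx hy

/-- The second map into the thickening of the diagonal. -/
def diagSnd (A B : Type u) [CommRing A] [CommRing B] [Algebra A B] :
    B →+* (B ⊗[A] B) ⧸ (KaehlerDifferential.ideal A B) ^ 2 :=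
  (Ideal.Quotient.mk _).comp (Algebra.TensorProduct.includeRight (R := A) (A := B) (B := B)).toRingHom

lemma diag_p_snd (A B : Type u) [CommRing A] [CommRing B] [Algebra A B] :
    (diagThk A B).p.comp (diagSnd A B) = RingHom.id B :=
  RingHom.ext fun b => by simp [diagThk, diagSnd]

lemma diag_comp_algebraMap (A B : Type u) [CommRing A] [CommRing B] [Algebra A B] :
    (diagThk A B).i.comp (algebraMap A B) = (diagSnd A B).comp (algebraMap A B) :=
  RingHom.ext fun a => congrArg (Ideal.Quotient.mk _) (by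
    change (algebraMap A B a) ⊗ₜ[A] (1 : B) = (1 : B) ⊗ₜ[A] (algebraMap A B a)
    rw [Algebra.algebraMap_eq_smul_one, TensorProduct.smul_tmul])

lemma formallyUnramified_of_diag {A B : Type u} [CommRing A] [CommRing B] [Algebra A B]
    (h : (diagThk A B).i = diagSnd A B) : Algebra.FormallyUnramified A B := by
  refine ⟨?_⟩
  change Subsingleton (KaehlerDifferential.ideal A B).Cotangent
  rw [Ideal.cotangent_subsingleton_iff, IsIdempotentElem]
  refine le_antisymm Ideal.mul_le_right ?_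
  conv_lhs => rw [← KaehlerDifferential.span_range_eq_ideal]
  rw [Ideal.span_le]
  rintro _ ⟨b, rfl⟩
  have e := RingHom.congr_fun h b
  change Ideal.Quotient.mk _ (b ⊗ₜ[A] (1 : B)) = Ideal.Quotient.mk _ ((1 : B) ⊗ₜ[A] b) at e
  rw [SetLike.mem_coe, ← pow_two, ← Ideal.Quotient.eq]
  exact e.symm

variable {Y : overCat U ⥤ᵇ 𝒴}

/-- The equality of the two points of a base change over a thickening. -/
theorem points_eq (h𝒴 : Stk.IsStack (AlgSp.J S) 𝒴) (φ : FIso 𝒳 𝒴) {X : overCat U ⥤ᵇ 𝒳}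
    (hxy : φ.toEquiv U (objCls X) = objCls Y) (hX : UnrMap X) {H₁ : Sp S} {a₁ : H₁ ⟶ (yon S).obj U}
    {C₁ : Classifier Y (zU Y) a₁} {B R : Type u} [CommRing B] [CommRing R]
    {uB : Spec (.of B) ⟶ U.left} (D : AutChart Y C₁ uB) (t : SplitThk B R) (g : B →+* R)
    (hg : t.p.comp g = RingHom.id B)
    {V : Over S} {z : 𝒴.p.Fiber V} {H : Sp S} {aH : H ⟶ (yon S).obj V} (C : Classifier Y z aH)
    {U' : Over S} {v : U' ⟶ U} {b : U' ⟶ V} {n : Y.obj (Over.mk v) ⟶ z.1} (hn : 𝒴.p.IsHomLift b n)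
    (c : (oU uB).left ⟶ U') (hc : c ≫ v = (oU uB).hom)
    (gi gg : (oR t uB).left ⟶ (oU uB).left) (hgi : gi.left = sp t.i) (hgg : gg.left = sp g)
    (hcb : gi ≫ c ≫ b = gg ≫ c ≫ b) :
    (yon S).map (gi ≫ c) ≫ C.cls (mkE Y (Over.mk v) b n hn) =
      (yon S).map (gg ≫ c) ≫ C.cls (mkE Y (Over.mk v) b n hn) := by
  haveI := isFibGrpd_overCat (C := Over S) U
  let j : (oU uB).left ⟶ (oR t uB).left := (jα t uB).left
  have hji : j ≫ gi = 𝟙 _ := Over.OverMorphism.ext (by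
    rw [Over.comp_left, hgi]
    change sp t.p ≫ sp t.i = 𝟙 _
    rw [sp_comp, t.p_i, sp_id])
  have hjg : j ≫ gg = 𝟙 _ := Over.OverMorphism.ext (by
    rw [Over.comp_left, hgg]
    change sp t.p ≫ sp g = 𝟙 _
    rw [sp_comp, hg, sp_id])
  -- the objects agree
  have hobj : gg ≫ c ≫ v = gi ≫ c ≫ v := by
    let h2 : B →+* fibRing t.p t.p := fibLift t.i g (by rw [hg, t.p_i])
    let T2 : Over S := Over.mk (sp h2 ≫ uB ≫ U.hom)
    let gh : T2 ⟶ (oU uB).left := Over.homMk (sp h2) rfl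
    let p₁ : (oR t uB).left ⟶ T2 := Over.homMk (sp fibFst) (by
      change sp _ ≫ sp h2 ≫ uB ≫ U.hom = (sp t.i ≫ uB) ≫ U.hom
      rw [sp_comp_assoc, fibFst_lift, Category.assoc])
    let p₂ : (oR t uB).left ⟶ T2 := Over.homMk (sp fibSnd) (by
      change sp _ ≫ sp h2 ≫ uB ≫ U.hom = (sp t.i ≫ uB) ≫ U.hom
      have hw := Over.w gg
      rw [hgg] at hw
      rw [sp_comp_assoc, fibSnd_lift]
      exact hw)
    have e₁ : p₁ ≫ gh = gi := Over.OverMorphism.ext (by
      rw [Over.comp_left, hgi]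
      change sp _ ≫ sp h2 = _
      rw [sp_comp, fibFst_lift])
    have e₂ : p₂ ≫ gh = gg := Over.OverMorphism.ext (by
      rw [Over.comp_left, hgg]
      change sp _ ≫ sp h2 = _
      rw [sp_comp, fibSnd_lift])
    let o₂ : Over U := Over.mk (gh ≫ c ≫ v)
    let m₂ : o₂ ⟶ Over.mk v := Over.homMk (gh ≫ c) (by
      change (gh ≫ c) ≫ v = gh ≫ c ≫ v
      rw [Category.assoc])
    have hN : 𝒴.p.IsHomLift (m₂.left ≫ b) (Y.map m₂ ≫ n) := by
      haveI := hn; haveI := lift_map Y m₂; infer_instance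
    obtain ⟨z₀, hz₀⟩ := Quotient.exists_rep ((symm φ).toEquiv _ (cls z))
    obtain ⟨m, hm⟩ := exists_hom_transport (symm φ) (m₂.left ≫ b)
      (x' := Fiber.mk (p := 𝒴.p) (a := Y.obj o₂) (Y.w_obj o₂))
      (y' := Fiber.mk (p := 𝒳.p) (a := X.obj o₂) (X.w_obj o₂)) (Y.map m₂ ≫ n) hN
      (by
        change (φ.toEquiv o₂.left).symm _ = _
        rw [Equiv.symm_apply_eq]
        exact (cls_value φ hxy o₂).symm)
      (y := z₀) (show (symm φ).toEquiv _ (cls z) = cls z₀ from hz₀.symm)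
    obtain ⟨H', a', ha', ⟨C'⟩⟩ := hX V z₀
    let q₁ : Over.mk (p₁ ≫ gh ≫ c ≫ v) ⟶ o₂ := Over.homMk p₁
    let q₂ : Over.mk (p₂ ≫ gh ≫ c ≫ v) ⟶ o₂ := Over.homMk p₂
    have hq₁ : 𝒳.p.IsHomLift (q₁.left ≫ m₂.left ≫ b) (X.map q₁ ≫ m) := by
      haveI := hm; haveI := lift_map X q₁; infer_instance
    have hq₂ : 𝒳.p.IsHomLift (q₂.left ≫ m₂.left ≫ b) (X.map q₂ ≫ m) := by
      haveI := hm; haveI := lift_map X q₂; infer_instance
    have jp : j ≫ p₁ = j ≫ p₂ := Over.OverMorphism.ext (by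
      rw [Over.comp_left, Over.comp_left]
      change sp t.p ≫ sp (fibFst (f := t.p) (p := t.p)) = sp t.p ≫ sp (fibSnd (f := t.p) (p := t.p))
      rw [sp_comp, sp_comp, fib_cond])
    have et : (yon S).map p₁ ≫ C'.cls (mkE X o₂ (m₂.left ≫ b) m hm) =
        (yon S).map p₂ ≫ C'.cls (mkE X o₂ (m₂.left ≫ b) m hm) := by
      refine hom_eq_of_unramified (R := R) (fun x => ⟨t.i x, t.p_i_apply x⟩) j rfl t.sq ha' ?_ ?_
      · rw [← Functor.map_comp_assoc, ← Functor.map_comp_assoc, jp]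
      · simp only [Category.assoc, base_eq_of_cls X C' hm, ← Functor.map_comp]
        congr 1
        change p₁ ≫ (gh ≫ c) ≫ b = p₂ ≫ (gh ≫ c) ≫ b
        rw [Category.assoc, ← Category.assoc p₁, ← Category.assoc p₂, e₁, e₂, hcb]
    have := obj_eq_of_cls X C' hq₁ hq₂
      ((cls_mkE_map X C' q₂ hm hq₂ rfl).trans (et.symm.trans (cls_mkE_map X C' q₁ hm hq₁ rfl).symm))
    rw [← Category.assoc p₁, ← Category.assoc p₂, e₁, e₂] at this
    exact this
  -- the maps agree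
  have hgv : gi ≫ c ≫ v = (oR t uB).hom := by
    rw [hc]
    exact Over.OverMorphism.ext (by rw [Over.comp_left, hgi]; rfl)
  let mi : oR t uB ⟶ Over.mk v := Over.homMk (gi ≫ c) (by
    change (gi ≫ c) ≫ v = (oR t uB).hom
    rw [Category.assoc, hgv])
  let mg : oR t uB ⟶ Over.mk v := Over.homMk (gg ≫ c) (by
    change (gg ≫ c) ≫ v = (oR t uB).hom
    rw [Category.assoc, hobj, hgv])
  haveI := hn
  haveI := lift_map Y mi
  haveI := lift_map Y mg
  haveI hni : 𝒴.p.IsHomLift (mi.left ≫ b) (Y.map mi ≫ n) := inferInstance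
  have hbb : mg.left ≫ b = mi.left ≫ b := by
    change (gg ≫ c) ≫ b = (gi ≫ c) ≫ b
    rw [Category.assoc, Category.assoc, hcb]
  haveI hng : 𝒴.p.IsHomLift (mi.left ≫ b) (Y.map mg ≫ n) := by
    rw [← hbb]; infer_instance
  let α := IsStronglyCartesian.map 𝒴.p (mi.left ≫ b) (Y.map mi ≫ n) (g := 𝟙 (oR t uB).left)
    (f' := mi.left ≫ b) (Category.id_comp _).symm (Y.map mg ≫ n)
  haveI hα : 𝒴.p.IsHomLift (𝟙 (oR t uB).left) α := IsStronglyCartesian.map_isHomLift 𝒴.p (mi.left ≫ b)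
    (Y.map mi ≫ n) (g := 𝟙 (oR t uB).left) (f' := mi.left ≫ b) (Category.id_comp _).symm (Y.map mg ≫ n)
  have hfac : α ≫ Y.map mi ≫ n = Y.map mg ≫ n := IsStronglyCartesian.fac 𝒴.p (mi.left ≫ b) (Y.map mi ≫ n)
    (g := 𝟙 (oR t uB).left) (f' := mi.left ≫ b) (Category.id_comp _).symm (Y.map mg ≫ n)
  have hjm : jα t uB ≫ mg = jα t uB ≫ mi := Over.OverMorphism.ext (by
    change j ≫ gg ≫ c = j ≫ gi ≫ c
    rw [← Category.assoc, ← Category.assoc, hjg, hji])
  have h0 : Y.map (jα t uB) ≫ α = Y.map (jα t uB) := by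
    haveI := lift_map Y (jα t uB)
    haveI : 𝒴.p.IsHomLift (jα t uB).left (Y.map (jα t uB) ≫ α) :=
      IsHomLift.comp_lift_id_right 𝒴.p (jα t uB).left (Y.map (jα t uB)) α
    apply IsStronglyCartesian.ext 𝒴.p (mi.left ≫ b) (Y.map mi ≫ n) (jα t uB).left
    rw [Category.assoc, hfac, ← Category.assoc, ← Category.assoc, ← Y.toFunctor.map_comp,
      ← Y.toFunctor.map_comp]
    exact congrArg (fun k => Y.map k ≫ n) hjm
  have hα1 := aut_eq_id Y h𝒴 φ hxy hX D t α hα h0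
  rw [hα1, Category.id_comp] at hfac
  have e₁ := cls_mkE_map Y C mi hn hni rfl
  have e₂ := cls_mkE_map Y C mg hn hng rfl
  refine e₁.symm.trans (Eq.trans ?_ e₂)
  congr 1
  simp only [Elt.mk.injEq]
  exact ⟨trivial, trivial, heq_of_eq hfac⟩

/-- Unramified charts are detected by the classes. -/
theorem chart_unramified (h𝒴 : AlgSt.IsAlgStack Scheme.fppfPrecoverage 𝒴) (φ : FIso 𝒳 𝒴)
    {X : overCat U ⥤ᵇ 𝒳} (hxy : φ.toEquiv U (objCls X) = objCls Y)
    (hX : AlgSt.RepByAlgSpWith (LocP (@LocallyOfFiniteType ⊓ @FormallyUnramified)) X)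
    (hlfp : AlgSt.RepByAlgSpWith (LocP @LocallyOfFinitePresentation) Y) :
    AlgSt.RepByAlgSpWith (LocP (@LocallyOfFiniteType ⊓ @FormallyUnramified)) Y := by
  haveI := isFibGrpd_overCat (C := Over S) U
  have hst : Stk.IsStack (AlgSp.J S) 𝒴 := h𝒴.isStack
  obtain ⟨H₁, a₁, hH₁, -, -, ⟨C₁⟩⟩ := exists_classifier hlfp (zU Y)
  obtain ⟨Q, q₁, hq₁, hq₁s⟩ := hH₁.atlas
  rw [repByAlgSpWith_iff]
  intro V w
  obtain ⟨α⟩ := nonempty_uf_iso w
  generalize Fiber.mk (p := 𝒴.p) (a := w.obj ⟨V, ⟨𝟙 V⟩⟩) (w.w_obj _) = z at α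
  obtain ⟨H, aH, hH, hlfpH, haH, ⟨C⟩⟩ := exists_classifier hlfp z
  refine ⟨H, aH, hH, haH.congr α (Iso.refl _), ?_⟩
  obtain ⟨U', t₀, ht₀, ht₀s⟩ := hH.atlas
  obtain ⟨v, b, n, hn, hcls⟩ := exists_mkE Y C t₀
  have hcomp : t₀ ≫ aH = (yon S).map b ≫ 𝟙 _ := by
    rw [Category.comp_id, ← hcls]; exact base_eq_of_cls Y C hn
  refine AlgSpLib.locP_of_chart ht₀ ht₀s (repWith_id _ V) hcomp ?_
  haveI hb : LocallyOfFinitePresentation b.left := hlfpH t₀ (𝟙 _) b ht₀ (repWith_id _ V) hcomp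
  -- the fine cover
  obtain ⟨vQ, bQ, nQ, hnQ, hclsQ⟩ := exists_mkE Y C₁ q₁
  let t₁ := C₁.cls (vE Y (Over.mk v) (𝟙 _) (lift_id Y _))
  obtain ⟨P, qP, p, sq⟩ := AlgSpLib.exists_isPullback_yon q₁ t₁ hq₁.rep
  haveI : Etale p.left := AlgSpLib.etale_left (AlgSpLib.repWith_of_isPullback sq hq₁)
  haveI : Surjective p.left := AlgSpLib.surjective_left (AlgSpLib.repWith_of_isPullback sq hq₁s)
  have hsq : (yon S).map qP ≫ q₁ = (yon S).map p ≫ t₁ := sq.w
  have hbQ : qP ≫ bQ = p ≫ v := by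
    refine (yon S).map_injective ?_
    have e := congrArg (· ≫ a₁) hsq
    simp only [Category.assoc, t₁] at e
    rw [← hclsQ] at e
    erw [C₁.cls_comp, C₁.cls_comp] at e
    rw [Functor.map_comp, Functor.map_comp]
    exact e
  have hvQ : qP ≫ vQ = p ≫ v := by
    let m : Over.mk (p ≫ v) ⟶ Over.mk v := Over.homMk p
    let m' : Over.mk (qP ≫ vQ) ⟶ Over.mk vQ := Over.homMk qP
    have hl : 𝒴.p.IsHomLift (qP ≫ bQ) (Y.map m' ≫ nQ) := by
      haveI := hnQ; haveI := lift_map Y m'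
      exact inferInstanceAs (𝒴.p.IsHomLift (m'.left ≫ bQ) _)
    refine obj_eq_of_cls Y C₁ (vMap_lift Y (lift_id Y (Over.mk (p ≫ v)))) hl ?_
    refine (cls_mkE_map Y C₁ m' hnQ hl rfl).trans ?_
    rw [hclsQ]
    refine hsq.trans ?_
    exact (cls_vE_map Y C₁ m (lift_id Y _) (lift_id Y _)
      ((Category.comp_id _).trans (Category.id_comp _).symm)).symm
  have local_ : ∀ π : P.left, ∃ (O : P.left.Opens) (hO : IsAffineOpen O), π ∈ O ∧
      FormallyUnramified (hO.fromSpec ≫ (p ≫ b).left) := by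
    intro π
    obtain ⟨OV, hOV, hπV, -⟩ :=
      exists_isAffineOpen_mem_and_subset (U := (⊤ : V.left.Opens)) (x := (p ≫ b).left π) trivial
    obtain ⟨OU, hOU, hπU, -⟩ :=
      exists_isAffineOpen_mem_and_subset (U := (⊤ : U.left.Opens)) (x := vQ.left (qP.left π)) trivial
    have hπU' : bQ.left (qP.left π) ∈ OU := by
      rw [← Scheme.Hom.comp_apply, ← Over.comp_left, hbQ, ← hvQ, Over.comp_left, Scheme.Hom.comp_apply]
      exact hπU
    obtain ⟨OQ, hOQ, hπQ, hQle⟩ := exists_isAffineOpen_mem_and_subset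
      (U := vQ.left ⁻¹ᵁ OU ⊓ bQ.left ⁻¹ᵁ OU) (x := qP.left π) ⟨hπU, hπU'⟩
    obtain ⟨OP, hOP, hπP, hPle⟩ := exists_isAffineOpen_mem_and_subset
      (U := qP.left ⁻¹ᵁ OQ ⊓ (p ≫ b).left ⁻¹ᵁ OV) (x := π) ⟨hπQ, hπV⟩
    refine ⟨OP, hOP, hπP, ?_⟩
    have lQ : OP ≤ qP.left ⁻¹ᵁ OQ := fun x hx => (hPle hx).1
    have lV : OP ≤ (p ≫ b).left ⁻¹ᵁ OV := fun x hx => (hPle hx).2
    have lv : OQ ≤ vQ.left ⁻¹ᵁ OU := fun x hx => (hQle hx).1
    have lb : OQ ≤ bQ.left ⁻¹ᵁ OU := fun x hx => (hQle hx).2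
    let A : Type u := Γ(Q.left, OQ)
    let B : Type u := Γ(P.left, OP)
    let K : Type u := Γ(V.left, OV)
    let χ : A →+* B := (qP.left.appLE OQ OP lQ).hom
    let ρ : K →+* B := ((p ≫ b).left.appLE OV OP lV).hom
    let uB : Spec (.of B) ⟶ U.left := hOP.fromSpec ≫ (p ≫ v).left
    let str : Spec (.of A) ⟶ S := hOQ.fromSpec ≫ Q.hom
    let qA : Over.mk str ⟶ Q := Over.homMk hOQ.fromSpec rfl
    haveI : IsOpenImmersion qA.left := inferInstanceAs (IsOpenImmersion hOQ.fromSpec)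
    have hχ : sp χ ≫ hOQ.fromSpec = hOP.fromSpec ≫ qP.left :=
      IsAffineOpen.SpecMap_appLE_fromSpec qP.left hOQ hOP lQ
    let cP : (oU uB).left ⟶ P := Over.homMk hOP.fromSpec (by
      change hOP.fromSpec ≫ P.hom = (hOP.fromSpec ≫ (p ≫ v).left) ≫ U.hom
      rw [Category.assoc, Over.w (p ≫ v)])
    let χh : (oU uB).left ⟶ Over.mk str := Over.homMk (sp χ) (by
      change sp χ ≫ hOQ.fromSpec ≫ Q.hom = (hOP.fromSpec ≫ (p ≫ v).left) ≫ U.hom
      rw [reassoc_of% hχ, Over.w qP, Category.assoc, Over.w (p ≫ v)])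
    have hχP : χh ≫ qA = cP ≫ qP := Over.OverMorphism.ext hχ
    let mQ : Over.mk (qA ≫ vQ) ⟶ Over.mk vQ := Over.homMk qA
    have hlA : 𝒴.p.IsHomLift (qA ≫ bQ) (Y.map mQ ≫ nQ) := by
      haveI := hnQ; haveI := lift_map Y mQ
      exact inferInstanceAs (𝒴.p.IsHomLift (mQ.left ≫ bQ) _)
    let c : (oU uB).left ⟶ U' := cP ≫ p
    have hc : c ≫ v = (oU uB).hom := Over.OverMorphism.ext (Category.assoc _ _ _)
    let mc : oU uB ⟶ Over.mk v := Over.homMk c hc
    haveI : Mono hOU.fromSpec := inferInstance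
    let D : AutChart Y C₁ uB :=
      { A := A, K := Γ(U.left, OU), piece := hOU.fromSpec, str := str
        q := (yon S).map qA ≫ q₁
        etale := isFormallyEtaleMor_of_repWith (IsAlgSpace.yon_obj _) hH₁
          (AlgSpLib.repWith_comp (P := (@Etale : MorphismProperty Scheme.{u}))
            ((repWith_yon_map_iff _ qA).2 inferInstance) hq₁)
        v := qA ≫ vQ, b := qA ≫ bQ, n := Y.map mQ ≫ nQ, lift := hlA
        cls_eq := (cls_mkE_map Y C₁ mQ hnQ hlA rfl).trans (by rw [hclsQ]; rfl)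
        vK := (vQ.left.appLE OU OQ lv).hom
        hvK := IsAffineOpen.SpecMap_appLE_fromSpec vQ.left hOU hOQ lv
        bK := (bQ.left.appLE OU OQ lb).hom
        hbK := IsAffineOpen.SpecMap_appLE_fromSpec bQ.left hOU hOQ lb
        χ := χ, χh := χh, hχh := rfl
        cls_id := by
          rw [← Functor.map_comp_assoc, hχP, Functor.map_comp_assoc, hsq, ← Functor.map_comp_assoc]
          exact cls_vE_map Y C₁ mc (lift_id Y _) (lift_id Y _)
            ((Category.comp_id _).trans (Category.id_comp _).symm) }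
    -- the thickening of the diagonal
    have hcb : (c ≫ b).left = sp ρ ≫ hOV.fromSpec := by
      change (hOP.fromSpec ≫ p.left) ≫ b.left = _
      rw [Category.assoc, ← Over.comp_left]
      exact (IsAffineOpen.SpecMap_appLE_fromSpec (p ≫ b).left hOV hOP lV).symm
    have hfs : hOP.fromSpec ≫ (p ≫ b).left = sp ρ ≫ hOV.fromSpec :=
      (IsAffineOpen.SpecMap_appLE_fromSpec (p ≫ b).left hOV hOP lV).symm
    rw [hfs]
    letI : Algebra K B := ρ.toAlgebra
    suffices h : Algebra.FormallyUnramified K B by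
      exact MorphismProperty.comp_mem @FormallyUnramified _ _
        ((HasRingHomProperty.Spec_iff (P := @FormallyUnramified)).2 h) inferInstance
    refine formallyUnramified_of_diag ?_
    let t := diagThk K B
    let g := diagSnd K B
    have hrho : t.i.comp ρ = g.comp ρ := diag_comp_algebraMap K B
    let gi : (oR t uB).left ⟶ (oU uB).left := Over.homMk (sp t.i) (Category.assoc _ _ _).symm
    let gg : (oR t uB).left ⟶ (oU uB).left := Over.homMk (sp g) (by
      change sp g ≫ uB ≫ U.hom = (sp t.i ≫ uB) ≫ U.hom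
      have hh := Over.w (c ≫ b)
      change (c ≫ b).left ≫ V.hom = uB ≫ U.hom at hh
      refine (congrArg (sp g ≫ ·) hh.symm).trans (Eq.trans ?_
        ((congrArg (sp t.i ≫ ·) hh).trans (Category.assoc _ _ _).symm))
      rw [hcb]
      simp only [Category.assoc]
      rw [sp_comp_assoc, sp_comp_assoc, hrho])
    have hbase : gi ≫ c ≫ b = gg ≫ c ≫ b := Over.OverMorphism.ext (by
      conv_lhs => rw [Over.comp_left, hcb]
      conv_rhs => rw [Over.comp_left, hcb]
      change sp t.i ≫ sp ρ ≫ _ = sp g ≫ sp ρ ≫ _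
      rw [sp_comp_assoc, sp_comp_assoc, hrho])
    have key := points_eq hst φ hxy (unrMap_of_locP hX) D t g (diag_p_snd K B) C hn c hc gi gg rfl rfl hbase
    rw [hcls, Functor.map_comp_assoc, Functor.map_comp_assoc] at key
    haveI : IsOpenImmersion cP.left := inferInstanceAs (IsOpenImmersion hOP.fromSpec)
    haveI : Etale c.left := by rw [Over.comp_left]; infer_instance
    have hu : IsFormallyUnramifiedMor ((yon S).map c ≫ t₀) :=
      AlgSpLib.isFormallyUnramifiedMor_of_repWith_etale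
        (AlgSpLib.repWith_comp (P := (@Etale : MorphismProperty Scheme.{u}))
          ((repWith_yon_map_iff _ c).2 inferInstance) ht₀)
    have hgg : gi = gg := by
      refine (yon S).map_injective (hom_eq_of_unramified (fun x => ⟨t.i x, t.p_i_apply x⟩)
        (jα t uB).left rfl t.sq hu ?_ key)
      rw [← Functor.map_comp, ← Functor.map_comp]
      congr 1
      refine Over.OverMorphism.ext ?_
      change sp t.p ≫ sp t.i = sp t.p ≫ sp g
      rw [sp_comp, sp_comp, t.p_i, diag_p_snd]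
    exact sp_inj (congrArg Over.Hom.left hgg)
  choose O hO hmem hfu using local_
  let dsc : (∐ fun π : P.left => Spec Γ(P.left, O π)) ⟶ U'.left :=
    Sigma.desc fun π => (hO π).fromSpec ≫ p.left
  haveI : Etale dsc := IsZariskiLocalAtSource.sigmaDesc (P := @Etale) fun π => inferInstance
  haveI : Surjective dsc := by
    refine ⟨fun x => ?_⟩
    obtain ⟨π, rfl⟩ := p.left.surjective x
    obtain ⟨y, hy⟩ : π ∈ Set.range (hO π).fromSpec := by rw [IsAffineOpen.range_fromSpec]; exact hmem π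
    refine ⟨Sigma.ι (fun π : P.left => Spec Γ(P.left, O π)) π y, ?_⟩
    rw [← Scheme.Hom.comp_apply, Sigma.ι_desc, Scheme.Hom.comp_apply]
    exact congrArg p.left hy
  refine AlgSpLib.EtLocProp.srcDescent dsc b.left ?_
  have hd : dsc ≫ b.left = Sigma.desc fun π => (hO π).fromSpec ≫ (p ≫ b).left := by
    refine Sigma.hom_ext _ _ fun π => ?_
    rw [Sigma.ι_desc_assoc, Sigma.ι_desc, Category.assoc, ← Over.comp_left]
  rw [hd]
  refine AlgSpLib.EtLocProp.sigmaDesc (P := (@LocallyOfFiniteType ⊓ @FormallyUnramified : MorphismProperty Scheme.{u}))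
    _ fun π => ⟨?_, hfu π⟩
  rw [Over.comp_left]
  exact inferInstanceAs (LocallyOfFiniteType ((hO π).fromSpec ≫ p.left ≫ b.left))

end IsoNatUnr
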